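import Mathlib

/-! A commutative group acting regularly on the nonidentity elements of a finite elementary abelian
2-group turns it into a field; alternating equivariant biadditive maps vanish. -/

set_option autoImplicit false

universe u v

namespace CfsgLib.SuzukiTwo

variable {E : Type u} [CommGroup E] [Finite E] {K : Type v} [Group K]

/-- Endomorphism of `Additive E` given by an element of `K`. -/
def actEnd (ι : K →* MulAut E) (k : K) : AddMonoid.End (Additive E) :=
  MonoidHom.toAdditive (ι k).toMonoidHom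

theorem exists_field_structure (ι : K →* MulAut E)
    (hcomm : ∀ (k l : K) (x : E), ι k (ι l x) = ι l (ι k x)) {e : E} (he : e ≠ 1)
    (htrans : ∀ x : E, x ≠ 1 → ∃ k : K, ι k e = x) :
    ∃ (F : Type u) (_ : Field F) (_ : Fintype F) (ψ : Multiplicative F ≃* E),
      ψ (Multiplicative.ofAdd (1 : F)) = e ∧
        ∀ k : K, ∃ a : F, a ≠ 0 ∧
          ∀ x : F, ι k (ψ (Multiplicative.ofAdd x)) = ψ (Multiplicative.ofAdd (a * x)) := by
  classical
  let S : Set (AddMonoid.End (Additive E)) := Set.range (actEnd ι)
  let R := Subring.closure S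
  have h0 : R ≤ Subring.centralizer S := by
    refine Subring.closure_le.2 ?_
    rintro _ ⟨k, rfl⟩
    refine Subring.mem_centralizer_iff.2 ?_
    rintro _ ⟨l, rfl⟩
    exact DFunLike.ext _ _ fun x => hcomm l k (Additive.toMul x)
  have hRc : ∀ r s : R, r * s = s * r := by
    intro r s
    have h : R ≤ Subring.centralizer {(s : AddMonoid.End (Additive E))} := by
      refine Subring.closure_le.2 fun x hx => Subring.mem_centralizer_iff.2 ?_
      rintro _ rfl
      exact (Subring.mem_centralizer_iff.1 (h0 s.2) x hx).symm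
    exact Subtype.ext (Subring.mem_centralizer_iff.1 (h r.2) s rfl).symm
  let ev : R → Additive E := fun r => (r : AddMonoid.End (Additive E)) (Additive.ofMul e)
  have hinj : Function.Injective ev := by
    intro r s h
    refine Subtype.ext (DFunLike.ext _ _ fun x => ?_)
    by_cases hx : Additive.toMul x = 1
    · have : x = 0 := hx
      rw [this, map_zero, map_zero]
    obtain ⟨k, hk⟩ := htrans _ hx
    have hk' : x = actEnd ι k (Additive.ofMul e) := hk.symm
    have hr : ∀ r : R, (r : AddMonoid.End (Additive E)) x = actEnd ι k (ev r) := fun r => by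
      rw [hk']
      exact (DFunLike.congr_fun (Subring.mem_centralizer_iff.1 (h0 r.2) _ ⟨k, rfl⟩) _).symm
    rw [hr, hr, h]
  have hsurj : Function.Surjective ev := by
    intro x
    by_cases hx : Additive.toMul x = 1
    · exact ⟨0, by rw [show x = 0 from hx]; rfl⟩
    obtain ⟨k, hk⟩ := htrans _ hx
    exact ⟨⟨actEnd ι k, Subring.subset_closure ⟨k, rfl⟩⟩, hk⟩
  have hne : (1 : R) ≠ 0 := fun h => by
    have : ev 1 = ev 0 := congrArg ev h
    exact he this
  have hfield : IsField R := by
    refine ⟨⟨1, 0, hne⟩, hRc, fun {r} hr => ?_⟩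
    have h1 : Additive.toMul (ev r) ≠ 1 := fun h => hr (hinj (h.trans rfl))
    obtain ⟨k, hk⟩ := htrans _ h1
    refine ⟨⟨actEnd ι k⁻¹, Subring.subset_closure ⟨k⁻¹, rfl⟩⟩, ?_⟩
    rw [hRc]
    apply hinj
    show actEnd ι k⁻¹ (ev r) = Additive.ofMul e
    have : ι k⁻¹ (Additive.toMul (ev r)) = e := by rw [← hk, map_inv]; simp
    exact this
  letI := hfield.toField
  haveI : Finite R := Finite.of_injective ev hinj
  haveI : Fintype R := Fintype.ofFinite R
  let ψ : Multiplicative R ≃* E :=
    { toFun := fun r => Additive.toMul (ev (Multiplicative.toAdd r))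
      invFun := fun x => Multiplicative.ofAdd ((Equiv.ofBijective ev ⟨hinj, hsurj⟩).symm (Additive.ofMul x))
      left_inv := fun r => (Equiv.ofBijective ev ⟨hinj, hsurj⟩).symm_apply_apply _
      right_inv := fun x => congrArg Additive.toMul
        ((Equiv.ofBijective ev ⟨hinj, hsurj⟩).apply_symm_apply (Additive.ofMul x))
      map_mul' := fun r s => rfl }
  refine ⟨R, inferInstance, inferInstance, ψ, rfl, fun k => ?_⟩
  refine ⟨⟨actEnd ι k, Subring.subset_closure ⟨k, rfl⟩⟩, fun h => ?_, fun x => rfl⟩
  have : ι k e = 1 := congrArg (fun r : R => Additive.toMul (ev r)) h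
  exact he ((ι k).injective (by rw [this, map_one]))

/-- An alternating biadditive map on a field which commutes with multiplications vanishes
(Hua's identity), in characteristic two. -/
theorem field_alternating_eq_zero {F : Type u} [Field F] (h2 : ∀ x : F, x + x = 0) (B : F → F → F)
    (hl : ∀ x x' y, B (x + x') y = B x y + B x' y) (halt : ∀ x, B x x = 0)
    (heq : ∀ a x y, a ≠ 0 → B (a * x) (a * y) = a * B x y)
    (hsq : ∀ x : F, ∃ y, y * y = x) (hr : ∀ x y y', B x (y + y') = B x y + B x y') :
    ∀ x y, B x y = 0 := by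
  have h0l : ∀ y, B 0 y = 0 := fun y => by
    have := hl 0 0 y
    rw [add_zero, h2] at this
    exact this
  have hB1 : ∀ u, B u 1 = 0 := by
    intro x
    obtain ⟨u, rfl⟩ := hsq x
    by_cases hu : u = 0
    · rw [hu, mul_zero, h0l]
    by_cases hu1 : 1 + u = 0
    · have : u = 1 := by linear_combination hu1 - h2 1
      rw [this, one_mul, halt]
    have hv : u + u * u ≠ 0 := by
      rw [show u + u * u = u * (1 + u) by ring]; exact mul_ne_zero hu hu1
    -- `h z = B z 1 = z * B 1 (1 / z)`
    have hh : ∀ z : F, z ≠ 0 → B z 1 = z * B 1 z⁻¹ := fun z hz => by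
      rw [← heq z 1 z⁻¹ hz, mul_one, mul_inv_cancel₀ hz]
    have hg1 : B 1 1 = 0 := halt 1
    have e1 : (u + u * u)⁻¹ = u⁻¹ + (1 + u)⁻¹ := by
      field_simp
      linear_combination -(h2 u)
    have hsplit : B (1 + u) 1 = B 1 1 + B u 1 := hl 1 u 1
    have hadd : B (u + u * u) 1 = B u 1 + B (u * u) 1 := hl _ _ _
    have hprod : B (u + u * u) 1 = (u + u * u) * (B 1 u⁻¹ + B 1 (1 + u)⁻¹) := by
      rw [hh _ hv, e1, hr]
    have hA := hh u hu
    have hC := hh (1 + u) hu1
    rw [hg1, zero_add] at hsplit
    rw [hadd] at hprod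
    rw [hsplit, hA] at hC
    rw [hA] at hprod
    linear_combination hprod - u * hC + h2 (u * u * B 1 u⁻¹)
  intro x y
  by_cases hy : y = 0
  · have := hr x 0 0
    rw [add_zero, h2] at this
    rw [hy, this]
  have := heq y (x / y) 1 hy
  rw [mul_div_cancel₀ _ hy, mul_one, hB1, mul_zero] at this
  exact this

theorem alternating_equivariant_eq_one (ι : K →* MulAut E) (hexp : ∀ x : E, x * x = 1)
    (hcomm : ∀ (k l : K) (x : E), ι k (ι l x) = ι l (ι k x)) {e : E} (he : e ≠ 1)
    (htrans : ∀ x : E, x ≠ 1 → ∃ k : K, ι k e = x) (b : E → E → E)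
    (hl : ∀ x x' y, b (x * x') y = b x y * b x' y)
    (hr : ∀ x y y', b x (y * y') = b x y * b x y') (halt : ∀ x, b x x = 1)
    (heq : ∀ k x y, b (ι k x) (ι k y) = ι k (b x y)) : ∀ x y, b x y = 1 := by
  obtain ⟨F, _, _, ψ, hψ1, hψ⟩ := exists_field_structure ι hcomm he htrans
  let B : F → F → F := fun x y =>
    Multiplicative.toAdd (ψ.symm (b (ψ (Multiplicative.ofAdd x)) (ψ (Multiplicative.ofAdd y))))
  have h2 : ∀ x : F, x + x = 0 := fun x => by
    have := ψ.injective (a₁ := Multiplicative.ofAdd x * Multiplicative.ofAdd x) (a₂ := 1)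
      (by rw [map_mul, hexp, map_one])
    exact this
  have hsq : ∀ x : F, ∃ y, y * y = x :=
    (Finite.injective_iff_surjective (f := fun y : F => y * y)).1 (fun x y (h : x * x = y * y) => by
      have h' : (x + y) * (x + y) = 0 := by linear_combination h + h2 (y * y) + h2 (x * y)
      have := mul_self_eq_zero.1 h'
      linear_combination this - h2 y)
  have hB := field_alternating_eq_zero h2 B
    (fun x x' y => by simp only [B, ofAdd_add, map_mul, hl, toAdd_mul])
    (fun x => by simp only [B, halt, map_one, toAdd_one])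
    (fun a x y ha => by
      obtain ⟨k, hk⟩ := htrans (ψ (Multiplicative.ofAdd a)) (fun h => ha (by
        have := ψ.injective (h.trans (map_one ψ).symm); exact this))
      obtain ⟨a', -, ha'⟩ := hψ k
      have : a' = a := by
        have h1 := ha' 1
        rw [mul_one, hψ1, hk] at h1
        exact (Multiplicative.ofAdd.injective (ψ.injective h1)).symm
      subst this
      simp only [B]
      rw [← ha', ← ha', heq]
      have h := ha' (Multiplicative.toAdd (ψ.symm (b (ψ (Multiplicative.ofAdd x)) (ψ (Multiplicative.ofAdd y)))))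
      rw [ofAdd_toAdd, MulEquiv.apply_symm_apply] at h
      rw [h, MulEquiv.symm_apply_apply, toAdd_ofAdd])
    hsq (fun x y y' => by simp only [B, ofAdd_add, map_mul, hr, toAdd_mul])
  intro x y
  have := hB (Multiplicative.toAdd (ψ.symm x)) (Multiplicative.toAdd (ψ.symm y))
  simp only [B, ofAdd_toAdd, MulEquiv.apply_symm_apply] at this
  have h := congrArg (fun z => ψ (Multiplicative.ofAdd z)) this
  simpa using h

end CfsgLib.SuzukiTwo
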