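import Mathlib
import Cfsg.Prelude.Def_LieRecognition
import Cfsg.Agent.Lib.PGroup.Basic
import Cfsg.Agent.Lib.SuzukiTwo.Alternating

/-! 2-groups with a cyclic group of automorphisms regular on involutions: basic facts, homocyclic
invariant abelian subgroups. -/

set_option autoImplicit false

open scoped commutatorElement

namespace CfsgLib.SuzukiTwo

variable {P : Type*} [Group P]

/-- A cyclic group `K` of automorphisms of the finite 2-group `P` is regular on the (at least two)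
involutions. -/
structure RegularInv (K : Subgroup (MulAut P)) : Prop where
  fin : Finite P
  isPGroup : IsPGroup 2 P
  two : ∃ x y : P, x ≠ y ∧ x ≠ 1 ∧ x * x = 1 ∧ y ≠ 1 ∧ y * y = 1
  cyclic : IsCyclic K
  reg : ∀ x y : P, x ≠ 1 → x * x = 1 → y ≠ 1 → y * y = 1 → ∃! k : K, (k : MulAut P) x = y

/-- The central elements squaring to one. -/
def omegaCenter (P : Type*) [Group P] : Subgroup P where
  carrier := {x | x ∈ Subgroup.center P ∧ x * x = 1}
  one_mem' := ⟨Subgroup.one_mem _, one_mul 1⟩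
  mul_mem' {x y} hx hy := ⟨Subgroup.mul_mem _ hx.1 hy.1, by
    have h : y * x = x * y := Subgroup.mem_center_iff.1 hx.1 y
    calc x * y * (x * y) = x * (y * x) * y := by group
      _ = (x * x) * (y * y) := by rw [h]; group
      _ = 1 := by rw [hx.2, hy.2, mul_one]⟩
  inv_mem' {x} hx := ⟨Subgroup.inv_mem _ hx.1, by rw [← mul_inv_rev, hx.2, inv_one]⟩

/-- `K`-invariance of a subgroup. -/
def KInv (K : Subgroup (MulAut P)) (S : Subgroup P) : Prop := ∀ k ∈ K, ∀ x ∈ S, k x ∈ S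

variable {K : Subgroup (MulAut P)} (hR : RegularInv K)

section regular

include hR

theorem mem_omega_of_sq {x : P} (hx : x * x = 1) : x ∈ omegaCenter P := by
  haveI := hR.fin
  haveI : Fact (Nat.Prime 2) := ⟨Nat.prime_two⟩
  by_cases hx1 : x = 1
  · rw [hx1]; exact Subgroup.one_mem _
  haveI : Nontrivial P := ⟨⟨x, 1, hx1⟩⟩
  obtain ⟨z, -, hzc, hz⟩ := CfsgLib.PGroup.exists_central_orderOf_eq hR.isPGroup (⊤ : Subgroup P) top_ne_bot
  have hz1 : z ≠ 1 := fun h => by rw [h, orderOf_one] at hz; omega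
  have hz2 : z * z = 1 := by rw [← sq, ← hz]; exact pow_orderOf_eq_one z
  obtain ⟨k, hk, -⟩ := hR.reg z x hz1 hz2 hx1 hx
  refine ⟨Subgroup.mem_center_iff.2 fun g => ?_, hx⟩
  have h := congrArg (k : MulAut P) (Subgroup.mem_center_iff.1 hzc ((k : MulAut P).symm g))
  rwa [map_mul, map_mul, MulEquiv.apply_symm_apply, hk] at h

theorem K_comm {k l : MulAut P} (hk : k ∈ K) (hl : l ∈ K) (x : P) : k (l x) = l (k x) := by
  haveI := hR.cyclic
  letI := IsCyclic.commGroup (α := K)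
  have h := mul_comm (⟨k, hk⟩ : K) ⟨l, hl⟩
  exact DFunLike.congr_fun (congrArg Subtype.val h) x

theorem fixedPointFree {k : MulAut P} (hk : k ∈ K) (hk1 : k ≠ 1) {x : P} (hx : k x = x) :
    x = 1 := by
  haveI := hR.fin
  haveI : Fact (Nat.Prime 2) := ⟨Nat.prime_two⟩
  by_contra hx1
  set y := x ^ (orderOf x / 2)
  have hy : orderOf y = 2 :=
    orderOf_pow_orderOf_div (orderOf_pos x).ne' (hR.isPGroup.dvd_orderOf hx1)
  have hy1 : y ≠ 1 := fun h => by rw [h, orderOf_one] at hy; omega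
  have hy2 : y * y = 1 := by rw [← sq, ← hy]; exact pow_orderOf_eq_one y
  have := (hR.reg y y hy1 hy2 hy1 hy2).unique (y₁ := ⟨k, hk⟩) (y₂ := 1)
    (by show k y = y; rw [map_pow, hx]) rfl
  exact hk1 (congrArg Subtype.val this)

theorem omega_le {S : Subgroup P} (hS : KInv K S) {x : P} (hx : x ∈ S) (hx1 : x ≠ 1) :
    omegaCenter P ≤ S := by
  haveI := hR.fin
  haveI : Fact (Nat.Prime 2) := ⟨Nat.prime_two⟩
  intro e he
  by_cases he1 : e = 1
  · rw [he1]; exact S.one_mem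
  set y := x ^ (orderOf x / 2) with hydef
  have hy : orderOf y = 2 :=
    orderOf_pow_orderOf_div (orderOf_pos x).ne' (hR.isPGroup.dvd_orderOf hx1)
  have hy1 : y ≠ 1 := fun h => by rw [h, orderOf_one] at hy; omega
  have hy2 : y * y = 1 := by rw [← sq, ← hy]; exact pow_orderOf_eq_one y
  obtain ⟨k, hk, -⟩ := hR.reg y e hy1 hy2 he1 he.2
  rw [← hk]
  exact hS k k.2 y (S.pow_mem hx _)

theorem exists_ne_one_K : ∃ k ∈ K, k ≠ 1 := by
  obtain ⟨x, y, hxy, hx1, hx2, hy1, hy2⟩ := hR.two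
  obtain ⟨k, hk, -⟩ := hR.reg x y hx1 hx2 hy1 hy2
  refine ⟨k, k.2, fun h => hxy ?_⟩
  rw [← hk, h]; rfl

theorem exists_omega_ne_one : ∃ e ∈ omegaCenter P, e ≠ 1 := by
  obtain ⟨x, -, -, hx1, hx2, -, -⟩ := hR.two
  exact ⟨x, mem_omega_of_sq hR hx2, hx1⟩

end regular

/-- The action of `K` on the central involutions. -/
def omegaAct (K : Subgroup (MulAut P)) : K →* MulAut (omegaCenter P) where
  toFun k :=
    { toFun := fun x => ⟨(k : MulAut P) x, by
        refine ⟨Subgroup.mem_center_iff.2 fun g => ?_, by rw [← map_mul, x.2.2, map_one]⟩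
        have h := congrArg (k : MulAut P) (Subgroup.mem_center_iff.1 x.2.1 ((k : MulAut P).symm g))
        rwa [map_mul, map_mul, MulEquiv.apply_symm_apply] at h⟩
      invFun := fun x => ⟨(k : MulAut P).symm x, by
        refine ⟨Subgroup.mem_center_iff.2 fun g => ?_, by rw [← map_mul, x.2.2, map_one]⟩
        have h := congrArg (k : MulAut P).symm (Subgroup.mem_center_iff.1 x.2.1 ((k : MulAut P) g))
        rwa [map_mul, map_mul, MulEquiv.symm_apply_apply] at h⟩
      left_inv := fun x => Subtype.ext ((k : MulAut P).symm_apply_apply _)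
      right_inv := fun x => Subtype.ext ((k : MulAut P).apply_symm_apply _)
      map_mul' := fun x y => Subtype.ext (map_mul (k : MulAut P) _ _) }
  map_one' := rfl
  map_mul' _ _ := rfl

theorem omegaCenter_comm (x y : omegaCenter P) : x * y = y * x :=
  Subtype.ext (Subgroup.mem_center_iff.1 y.2.1 x)

/-- An invariant abelian subgroup together with its exponent `2 ^ f`. -/
structure HomoData (K : Subgroup (MulAut P)) (A : Subgroup P) (f : ℕ) : Prop where
  comm : ∀ a ∈ A, ∀ b ∈ A, a * b = b * a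
  inv : KInv K A
  pow_eq : ∀ a ∈ A, a ^ 2 ^ f = 1
  exists_ne : ∃ a ∈ A, a ^ 2 ^ (f - 1) ≠ 1

variable {A : Subgroup P} {f : ℕ}

theorem exists_homoData (hR : RegularInv K) (hc : ∀ a ∈ A, ∀ b ∈ A, a * b = b * a)
    (hi : KInv K A) (hne : A ≠ ⊥) : ∃ f, HomoData K A f := by
  classical
  haveI := hR.fin
  haveI : Fact (Nat.Prime 2) := ⟨Nat.prime_two⟩
  obtain ⟨n, hn⟩ := IsPGroup.iff_card.1 (hR.isPGroup.to_subgroup A)
  have hex : ∃ f, ∀ a ∈ A, a ^ 2 ^ f = 1 := ⟨n, fun a ha => by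
    have := pow_card_eq_one' (G := A) (x := ⟨a, ha⟩)
    rw [hn] at this
    exact congrArg Subtype.val this⟩
  refine ⟨Nat.find hex, hc, hi, Nat.find_spec hex, ?_⟩
  have h0 : Nat.find hex ≠ 0 := fun h0 => hne (eq_bot_iff.2 fun a ha => by
    have h := Nat.find_spec hex a ha
    rw [h0, pow_zero, pow_one] at h
    exact Subgroup.mem_bot.2 h)
  have := Nat.find_min hex (m := Nat.find hex - 1) (by omega)
  push Not at this
  exact this

section homo

variable (hA : HomoData K A f)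

include hA

theorem one_le_f : 1 ≤ f := by
  by_contra h
  obtain ⟨a, ha, hne⟩ := hA.exists_ne
  have h' := hA.pow_eq a ha
  rw [show f = 0 by omega] at h' hne
  exact hne h'

theorem mul_pow_of_mem {x y : P} (hx : x ∈ A) (hy : y ∈ A) (n : ℕ) :
    (x * y) ^ n = x ^ n * y ^ n := Commute.mul_pow (hA.comm x hx y hy) n

theorem pi_mem {x : P} (hR : RegularInv K) (hx : x ∈ A) :
    x ^ 2 ^ (f - 1) ∈ omegaCenter P := by
  refine mem_omega_of_sq hR ?_
  rw [← pow_add, ← two_mul, ← pow_succ', show f - 1 + 1 = f by have := one_le_f hA; omega]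
  exact hA.pow_eq x hx

theorem omega_le_A (hR : RegularInv K) : omegaCenter P ≤ A := by
  obtain ⟨a, ha, hne⟩ := hA.exists_ne
  exact omega_le hR hA.inv ha fun h => hne (by rw [h, one_pow])

theorem omega_pow (hR : RegularInv K) {j : ℕ} (hj : j ≤ f - 1) {e : P} (he : e ∈ omegaCenter P) :
    ∃ y ∈ A, y ^ 2 ^ j = e := by
  let W : Subgroup P :=
    { carrier := {z | ∃ y ∈ A, y ^ 2 ^ j = z}
      one_mem' := ⟨1, A.one_mem, one_pow _⟩
      mul_mem' := fun {z w} ⟨y, hy, hyz⟩ ⟨v, hv, hvw⟩ =>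
        ⟨y * v, A.mul_mem hy hv, by rw [mul_pow_of_mem hA hy hv, hyz, hvw]⟩
      inv_mem' := fun {z} ⟨y, hy, hyz⟩ => ⟨y⁻¹, A.inv_mem hy, by rw [inv_pow, hyz]⟩ }
  obtain ⟨a, ha, hne⟩ := hA.exists_ne
  refine omega_le hR (S := W) ?_ (x := a ^ 2 ^ j) ⟨a, ha, rfl⟩ (fun h => hne ?_) he
  · rintro k hk _ ⟨y, hy, rfl⟩
    exact ⟨k y, hA.inv k hk y hy, (map_pow k _ _).symm⟩
  · rw [show f - 1 = j + (f - 1 - j) by omega, pow_add, pow_mul, h, one_pow]

theorem exists_sq (hR : RegularInv K) :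
    ∀ (j : ℕ) {x : P}, x ∈ A → x ^ 2 ^ j = 1 → j ≤ f - 1 → ∃ y ∈ A, x = y * y := by
  intro j
  induction j with
  | zero =>
    intro x hx h _
    rw [pow_zero, pow_one] at h
    exact ⟨1, A.one_mem, by rw [h, one_mul]⟩
  | succ j ih =>
    intro x hx h hj
    have he : x ^ 2 ^ j ∈ omegaCenter P := mem_omega_of_sq hR (by
      rw [← pow_add, ← two_mul, ← pow_succ', h])
    obtain ⟨y, hy, hye⟩ := omega_pow hA hR (j := j + 1) hj he
    obtain ⟨z, hz, hze⟩ := ih (A.mul_mem hx (A.inv_mem (A.mul_mem hy hy))) (by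
      rw [mul_pow_of_mem hA hx (A.inv_mem (A.mul_mem hy hy)), inv_pow, ← sq, ← pow_mul,
        ← pow_succ', hye, mul_inv_cancel]) (by omega)
    refine ⟨z * y, A.mul_mem hz hy, ?_⟩
    calc x = x * (y * y)⁻¹ * (y * y) := by group
      _ = z * (z * y) * y := by rw [hze]; group
      _ = z * (y * z) * y := by rw [hA.comm z hz y hy]
      _ = z * y * (z * y) := by group

theorem exists_sq_of_pi_eq_one (hR : RegularInv K) {x : P} (hx : x ∈ A)
    (h : x ^ 2 ^ (f - 1) = 1) : ∃ y ∈ A, x = y * y :=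
  exists_sq hA hR _ hx h le_rfl

theorem pi_surj (hR : RegularInv K) {e : P} (he : e ∈ omegaCenter P) :
    ∃ x ∈ A, x ^ 2 ^ (f - 1) = e := omega_pow hA hR le_rfl he

theorem exists_pow_of_mem_sq (hR : RegularInv K) {i : ℕ} (hi : i ≤ f - 1) {x r : P} (hx : x ∈ A)
    (hr : r ∈ A) (h : x * x = r ^ 2 ^ (i + 1)) : ∃ y ∈ A, x = y ^ 2 ^ i := by
  have h' : x * (r ^ 2 ^ i)⁻¹ * (x * (r ^ 2 ^ i)⁻¹) = 1 := by
    rw [← sq, mul_pow_of_mem hA hx (A.inv_mem (A.pow_mem hr _)), inv_pow, ← pow_mul, ← pow_succ,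
      sq, h, mul_inv_cancel]
  obtain ⟨y, hy, hye⟩ := omega_pow hA hR hi (mem_omega_of_sq hR h')
  refine ⟨y * r, A.mul_mem hy hr, ?_⟩
  rw [mul_pow_of_mem hA hy hr, hye, inv_mul_cancel_right]

end homo

/-- Elements of `C` which are central involutions modulo `A`. -/
def stepSubgroup (A C : Subgroup P) [A.Normal] : Subgroup P :=
  (omegaCenter (P ⧸ A)).comap (QuotientGroup.mk' A) ⊓ C

theorem mem_stepSubgroup {A C : Subgroup P} [A.Normal] {y : P} :
    y ∈ stepSubgroup A C ↔ (y * y ∈ A ∧ ∀ g : P, ⁅y, g⁆ ∈ A) ∧ y ∈ C := by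
  rw [stepSubgroup, Subgroup.mem_inf, Subgroup.mem_comap]
  refine and_congr_left fun _ => ?_
  show ((QuotientGroup.mk' A y ∈ Subgroup.center (P ⧸ A)) ∧ _) ↔ _
  rw [and_comm (b := ∀ g : P, ⁅y, g⁆ ∈ A), ← QuotientGroup.eq_one_iff (N := A) (y * y)]
  refine and_congr ?_ Iff.rfl
  rw [Subgroup.mem_center_iff, (QuotientGroup.mk'_surjective A).forall]
  refine forall_congr' fun g => ?_
  rw [← QuotientGroup.eq_one_iff (N := A), ← QuotientGroup.mk'_apply (N := A),
    map_commutatorElement, commutatorElement_eq_one_iff_mul_comm]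
  exact eq_comm

theorem stepSubgroup_normal {A C : Subgroup P} [A.Normal] (hAC : A ≤ C) :
    (stepSubgroup A C).Normal ∧ A ≤ stepSubgroup A C := by
  have hle : A ≤ stepSubgroup A C := fun a ha => mem_stepSubgroup.2
    ⟨⟨A.mul_mem ha ha, fun g => by
      rw [commutatorElement_def]
      have := A.mul_mem ha ((inferInstance : A.Normal).conj_mem _ (A.inv_mem ha) g)
      simpa [mul_assoc] using this⟩, hAC ha⟩
  refine ⟨⟨fun y hy g => ?_⟩, hle⟩
  obtain ⟨⟨-, hy2⟩, -⟩ := mem_stepSubgroup.1 hy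
  have h := (stepSubgroup A C).mul_mem (Subgroup.inv_mem _ (hle (hy2 g))) hy
  have e : ⁅y, g⁆⁻¹ * y = g * y * g⁻¹ := by rw [commutatorElement_def]; group
  rwa [e] at h

theorem stepSubgroup_kInv {A C : Subgroup P} [A.Normal] (hA : KInv K A) (hC : KInv K C) :
    KInv K (stepSubgroup A C) := by
  intro k hk y hy
  obtain ⟨⟨h1, h2⟩, h3⟩ := mem_stepSubgroup.1 hy
  refine mem_stepSubgroup.2 ⟨⟨by rw [← map_mul]; exact hA k hk _ h1, fun g => ?_⟩, hC k hk y h3⟩
  have := hA k hk _ (h2 (k.symm g))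
  rwa [map_commutatorElement, MulEquiv.apply_symm_apply] at this

theorem lt_stepSubgroup [Finite P] (hP : IsPGroup 2 P) {A C : Subgroup P} [A.Normal] [C.Normal]
    (hlt : A < C) : A < stepSubgroup A C := by
  haveI : Fact (Nat.Prime 2) := ⟨Nat.prime_two⟩
  obtain ⟨x, hxC, hxA, hxp, hxc⟩ := CfsgLib.PGroup.exists_step hP A C hlt
  refine lt_of_le_of_ne (stepSubgroup_normal hlt.le).2 fun h => hxA ?_
  rw [h]
  exact mem_stepSubgroup.2 ⟨⟨by rw [← sq]; exact hxp, hxc⟩, hxC⟩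

theorem centralizer_kInv {A : Subgroup P} (hA : KInv K A) :
    KInv K (Subgroup.centralizer (A : Set P)) := by
  intro k hk x hx
  refine Subgroup.mem_centralizer_iff.2 fun a ha => ?_
  have h1 : k.symm a ∈ A := hA k⁻¹ (K.inv_mem hk) a ha
  have h := congrArg k (Subgroup.mem_centralizer_iff.1 hx _ h1)
  rwa [map_mul, map_mul, MulEquiv.apply_symm_apply] at h

end CfsgLib.SuzukiTwo
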