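import Mathlib
import Cfsg.Prelude.Def_LieRecognition
import Cfsg.Agent.Lib.SuzukiTwo.Basic
import Cfsg.Agent.Lib.PGroup.Basic

/-! The centre of a Suzuki 2-group is elementary abelian. -/

set_option autoImplicit false

open scoped commutatorElement

namespace CfsgLib.SuzukiTwo

variable {P : Type*} [Group P] {K : Subgroup (MulAut P)}

theorem omega_conj {e : P} (he : e ∈ omegaCenter P) (g : P) : g * e * g⁻¹ = e := by
  rw [Subgroup.mem_center_iff.1 he.1 g, mul_inv_cancel_right]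

/-- An equivariant alternating pairing with values in the central involutions is trivial. -/
theorem pairing_eq_one (hR : RegularInv K) (B₁ B₂ : Subgroup P) (σ₁ σ₂ : P → P) (γ : P → P → P)
    (hi₁ : KInv K B₁) (hi₂ : KInv K B₂)
    (hs₁ : ∀ y ∈ B₁, σ₁ y ∈ omegaCenter P) (hs₂ : ∀ z ∈ B₂, σ₂ z ∈ omegaCenter P)
    (hm₁ : ∀ y ∈ B₁, ∀ y' ∈ B₁, σ₁ (y * y') = σ₁ y * σ₁ y')
    (hm₂ : ∀ z ∈ B₂, ∀ z' ∈ B₂, σ₂ (z * z') = σ₂ z * σ₂ z')
    (he₁ : ∀ k ∈ K, ∀ y ∈ B₁, σ₁ (k y) = k (σ₁ y))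
    (he₂ : ∀ k ∈ K, ∀ z ∈ B₂, σ₂ (k z) = k (σ₂ z))
    (hn₁ : ∃ y ∈ B₁, σ₁ y ≠ 1) (hn₂ : ∃ z ∈ B₂, σ₂ z ≠ 1)
    (hg : ∀ y ∈ B₁, ∀ z ∈ B₂, γ y z ∈ omegaCenter P)
    (hgl : ∀ y ∈ B₁, ∀ y' ∈ B₁, ∀ z ∈ B₂, γ (y * y') z = γ y z * γ y' z)
    (hgr : ∀ y ∈ B₁, ∀ z ∈ B₂, ∀ z' ∈ B₂, γ y (z * z') = γ y z * γ y z')
    (hge : ∀ k ∈ K, ∀ y ∈ B₁, ∀ z ∈ B₂, γ (k y) (k z) = k (γ y z))
    (hk₁ : ∀ y ∈ B₁, ∀ z ∈ B₂, σ₁ y = 1 → γ y z = 1)
    (hk₂ : ∀ y ∈ B₁, ∀ z ∈ B₂, σ₂ z = 1 → γ y z = 1)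
    (hd : ∀ y ∈ B₁, ∀ z ∈ B₂, σ₁ y = σ₂ z → γ y z = 1) :
    ∀ y ∈ B₁, ∀ z ∈ B₂, γ y z = 1 := by
  haveI := hR.fin
  obtain ⟨e, he, he1⟩ := exists_omega_ne_one hR
  have surj : ∀ (B : Subgroup P) (σ : P → P), KInv K B → (∀ y ∈ B, σ y ∈ omegaCenter P) →
      (∀ y ∈ B, ∀ y' ∈ B, σ (y * y') = σ y * σ y') → (∀ k ∈ K, ∀ y ∈ B, σ (k y) = k (σ y)) →
      (∃ y ∈ B, σ y ≠ 1) → ∀ u : omegaCenter P, ∃ y ∈ B, σ y = (u : P) := by
    intro B σ hi hs hm he' hn u
    let f : B →* P := MonoidHom.mk' (fun y => σ y) (fun y y' => hm y y.2 y' y'.2)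
    have hinv : KInv K f.range := by
      rintro k hk _ ⟨y, rfl⟩
      exact ⟨⟨k y, hi k hk y y.2⟩, he' k hk y y.2⟩
    obtain ⟨y₀, hy₀, hy1⟩ := hn
    obtain ⟨y, hy⟩ := omega_le hR hinv (x := σ y₀) ⟨⟨y₀, hy₀⟩, rfl⟩ hy1 u.2
    exact ⟨y, y.2, hy⟩
  choose Y hY hYe using surj B₁ σ₁ hi₁ hs₁ hm₁ he₁ hn₁
  choose Z hZ hZe using surj B₂ σ₂ hi₂ hs₂ hm₂ he₂ hn₂
  -- `γ` only depends on the values of `σ₁` and `σ₂`
  have indep : ∀ y ∈ B₁, ∀ y' ∈ B₁, ∀ z ∈ B₂, ∀ z' ∈ B₂, σ₁ y = σ₁ y' → σ₂ z = σ₂ z' →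
      γ y z = γ y' z' := by
    intro y hy y' hy' z hz z' hz' h1 h2
    have a1 : y⁻¹ * y' ∈ B₁ := B₁.mul_mem (B₁.inv_mem hy) hy'
    have a2 : z⁻¹ * z' ∈ B₂ := B₂.mul_mem (B₂.inv_mem hz) hz'
    have b1 : σ₁ (y⁻¹ * y') = 1 := by
      have h := hm₁ y hy _ a1
      rw [mul_inv_cancel_left, ← h1] at h
      exact mul_eq_left.1 h.symm
    have b2 : σ₂ (z⁻¹ * z') = 1 := by
      have h := hm₂ z hz _ a2
      rw [mul_inv_cancel_left, ← h2] at h
      exact mul_eq_left.1 h.symm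
    have c1 := hgl y hy _ a1 z' hz'
    rw [mul_inv_cancel_left, hk₁ _ a1 z' hz' b1, mul_one] at c1
    have c2 := hgr y hy z hz _ a2
    rw [mul_inv_cancel_left, hk₂ y hy _ a2 b2, mul_one] at c2
    rw [c1, c2]
  let b : omegaCenter P → omegaCenter P → omegaCenter P :=
    fun u v => ⟨γ (Y u) (Z v), hg _ (hY u) _ (hZ v)⟩
  letI : CommGroup (omegaCenter P) :=
    { (inferInstance : Group (omegaCenter P)) with mul_comm := omegaCenter_comm }
  have hb := alternating_equivariant_eq_one (omegaAct K) (fun x => Subtype.ext x.2.2)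
    (fun k l x => Subtype.ext (K_comm hR k.2 l.2 x)) (e := ⟨e, he⟩)
    (fun h => he1 (congrArg Subtype.val h))
    (fun x hx => by
      obtain ⟨k, hk, -⟩ := hR.reg e x he1 he.2 (fun h => hx (Subtype.ext h)) x.2.2
      exact ⟨k, Subtype.ext hk⟩)
    b
    (fun u u' v => Subtype.ext (by
      show γ (Y (u * u')) (Z v) = γ (Y u) (Z v) * γ (Y u') (Z v)
      rw [← hgl _ (hY u) _ (hY u') _ (hZ v)]
      refine indep _ (hY _) _ (B₁.mul_mem (hY u) (hY u')) _ (hZ v) _ (hZ v) ?_ rfl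
      rw [hm₁ _ (hY u) _ (hY u'), hYe, hYe, hYe]; rfl))
    (fun u v v' => Subtype.ext (by
      show γ (Y u) (Z (v * v')) = γ (Y u) (Z v) * γ (Y u) (Z v')
      rw [← hgr _ (hY u) _ (hZ v) _ (hZ v')]
      refine indep _ (hY _) _ (hY u) _ (hZ _) _ (B₂.mul_mem (hZ v) (hZ v')) rfl ?_
      rw [hm₂ _ (hZ v) _ (hZ v'), hZe, hZe, hZe]; rfl))
    (fun u => Subtype.ext (hd _ (hY u) _ (hZ u) (by rw [hYe, hZe])))
    (fun k u v => Subtype.ext (by
      show γ (Y (omegaAct K k u)) (Z (omegaAct K k v)) = (k : MulAut P) (γ (Y u) (Z v))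
      rw [← hge _ k.2 _ (hY u) _ (hZ v)]
      refine indep _ (hY _) _ (hi₁ _ k.2 _ (hY u)) _ (hZ _) _ (hi₂ _ k.2 _ (hZ v)) ?_ ?_
      · rw [he₁ _ k.2 _ (hY u), hYe, hYe]; rfl
      · rw [he₂ _ k.2 _ (hZ v), hZe, hZe]; rfl))
  intro y hy z hz
  have h : γ (Y ⟨σ₁ y, hs₁ y hy⟩) (Z ⟨σ₂ z, hs₂ z hz⟩) = 1 :=
    congrArg Subtype.val (hb ⟨σ₁ y, hs₁ y hy⟩ ⟨σ₂ z, hs₂ z hz⟩)
  rw [← h]
  exact indep y hy _ (hY _) z hz _ (hZ _) (hYe ⟨σ₁ y, hs₁ y hy⟩).symm
    (hZe ⟨σ₂ z, hs₂ z hz⟩).symm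

variable {A : Subgroup P} {f : ℕ}

theorem stepSubgroup_comm (hR : RegularInv K) [A.Normal] (hA : HomoData K A f) (hf : 2 ≤ f)
    (hlt : A < stepSubgroup A (Subgroup.centralizer (A : Set P))) :
    ∀ u ∈ stepSubgroup A (Subgroup.centralizer (A : Set P)),
      ∀ v ∈ stepSubgroup A (Subgroup.centralizer (A : Set P)), u * v = v * u := by
  set B := stepSubgroup A (Subgroup.centralizer (A : Set P)) with hB
  have hBi : KInv K B := stepSubgroup_kInv hA.inv (centralizer_kInv hA.inv)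
  have hsq : ∀ y ∈ B, y * y ∈ A := fun y hy => (mem_stepSubgroup.1 hy).1.1
  have hcA : ∀ y ∈ B, ∀ g, ⁅y, g⁆ ∈ A := fun y hy => (mem_stepSubgroup.1 hy).1.2
  have hcent : ∀ y ∈ B, ∀ a ∈ A, a * y = y * a := fun y hy a ha =>
    Subgroup.mem_centralizer_iff.1 (mem_stepSubgroup.1 hy).2 a ha
  have hom : ∀ u ∈ B, ∀ v ∈ B, ⁅u, v⁆ ∈ omegaCenter P := by
    intro u hu v hv
    set c := ⁅u, v⁆ with hc
    have hcm : c ∈ A := hcA u hu v
    have h1 : u * v * u⁻¹ = c * v := by rw [hc, commutatorElement_def]; group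
    have h2 : u * (v * v) * u⁻¹ = v * v := by
      rw [← hcent u hu _ (hsq v hv), mul_inv_cancel_right]
    have h3 : c * c * (v * v) = v * v := by
      conv_rhs => rw [← h2]
      calc c * c * (v * v) = c * (c * v) * v := by group
        _ = c * (v * c) * v := by rw [← hcent v hv c hcm]
        _ = c * v * (c * v) := by group
        _ = _ := by rw [← h1]; group
    exact mem_omega_of_sq hR (mul_eq_right.1 h3)
  let σ : P → P := fun y => (y * y) ^ 2 ^ (f - 1)
  have hker : ∀ y ∈ B, σ y = 1 → y ∈ A := by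
    intro y hy h
    obtain ⟨a, ha, hay⟩ := exists_sq_of_pi_eq_one hA hR (hsq y hy) h
    have hc := hcent y hy a⁻¹ (A.inv_mem ha)
    have : y * a⁻¹ * (y * a⁻¹) = 1 := by
      calc y * a⁻¹ * (y * a⁻¹) = y * (a⁻¹ * y) * a⁻¹ := by group
        _ = (y * y) * a⁻¹ * a⁻¹ := by rw [hc]; group
        _ = 1 := by rw [hay]; group
    have h' := omega_le_A hA hR (mem_omega_of_sq hR this)
    simpa using A.mul_mem h' ha
  have hm : ∀ y ∈ B, ∀ y' ∈ B, σ (y * y') = σ y * σ y' := by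
    intro y hy y' hy'
    have hc := hom y' hy' y hy
    have e : y * y' * (y * y') = ⁅y', y⁆ * ((y * y) * (y' * y')) := by
      calc y * y' * (y * y') = y * (⁅y', y⁆ * (y * y')) * y' := by
            rw [commutatorElement_def]; group
        _ = (y * ⁅y', y⁆ * y⁻¹) * ((y * y) * (y' * y')) := by group
        _ = _ := by rw [omega_conj hc]
    have h1 : ⁅y', y⁆ ^ 2 ^ (f - 1) = 1 := by
      rw [show f - 1 = (f - 2) + 1 by omega, pow_succ', pow_mul, sq, hc.2, one_pow]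
    show (y * y' * (y * y')) ^ 2 ^ (f - 1) = _
    rw [e, mul_pow_of_mem hA (omega_le_A hA hR hc) (A.mul_mem (hsq y hy) (hsq y' hy')), h1, one_mul,
      mul_pow_of_mem hA (hsq y hy) (hsq y' hy')]
  have hn : ∃ y ∈ B, σ y ≠ 1 := by
    obtain ⟨y, hy, hyA⟩ := SetLike.exists_of_lt hlt
    exact ⟨y, hy, fun h => hyA (hker y hy h)⟩
  have hs : ∀ y ∈ B, σ y ∈ omegaCenter P := fun y hy => pi_mem hA hR (hsq y hy)
  have he : ∀ k ∈ K, ∀ y ∈ B, σ (k y) = k (σ y) := fun k _ y _ => by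
    simp only [σ, map_pow, map_mul]
  have key := pairing_eq_one hR B B σ σ (fun y z => ⁅y, z⁆) hBi hBi hs hs hm hm he he hn hn hom
    (fun y hy y' hy' z hz => by
      calc ⁅y * y', z⁆ = (y * ⁅y', z⁆ * y⁻¹) * ⁅y, z⁆ := by simp only [commutatorElement_def]; group
        _ = ⁅y', z⁆ * ⁅y, z⁆ := by rw [omega_conj (hom y' hy' z hz)]
        _ = _ := (Subgroup.mem_center_iff.1 (hom y' hy' z hz).1 _).symm)
    (fun y hy z hz z' hz' => by
      calc ⁅y, z * z'⁆ = ⁅y, z⁆ * (z * ⁅y, z'⁆ * z⁻¹) := by simp only [commutatorElement_def]; group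
        _ = _ := by rw [omega_conj (hom y hy z' hz')])
    (fun k _ y _ z _ => (map_commutatorElement k y z).symm)
    (fun y hy z hz h => commutatorElement_eq_one_iff_mul_comm.2 (hcent z hz y (hker y hy h)))
    (fun y hy z hz h => commutatorElement_eq_one_iff_mul_comm.2 (hcent y hy z (hker z hz h)).symm)
    (fun y hy z hz h => by
      have hmem := B.mul_mem (B.inv_mem hy) hz
      have h1 : σ (y⁻¹ * z) = 1 := by
        have h2 := hm y hy _ hmem
        rw [mul_inv_cancel_left, ← h] at h2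
        exact mul_eq_left.1 h2.symm
      have h2 := hcent y hy _ (hker _ hmem h1)
      refine commutatorElement_eq_one_iff_mul_comm.2 ?_
      calc y * z = y * (y * (y⁻¹ * z)) := by group
        _ = y * ((y⁻¹ * z) * y) := by rw [h2]
        _ = z * y := by group)
  exact fun u hu v hv => commutatorElement_eq_one_iff_mul_comm.1 (key u hu v hv)

section outer

variable (hR : RegularInv K) [hAn : A.Normal] (hA : HomoData K A f) (hf : 3 ≤ f)

/-- The deviation `y x y⁻¹ x⁻¹` of the conjugation action on `A`. -/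
abbrev dev (y x : P) : P := ⁅y, x⁆

include hA hAn

theorem dev_mem {x : P} (hx : x ∈ A) (y : P) : dev y x ∈ A :=
  A.mul_mem (hAn.conj_mem x hx y) (A.inv_mem hx)

theorem dev_mul_right {x x' : P} (hx : x ∈ A) (hx' : x' ∈ A) (y : P) :
    dev y (x * x') = dev y x * dev y x' := by
  calc dev y (x * x') = dev y x * (x * dev y x' * x⁻¹) := by
        simp only [dev, commutatorElement_def]; group
    _ = _ := by rw [hA.comm x hx _ (dev_mem hA hx' y), mul_inv_cancel_right]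

theorem dev_pow {x : P} (hx : x ∈ A) (y : P) (n : ℕ) : dev y (x ^ n) = (dev y x) ^ n := by
  induction n with
  | zero => simp [dev]
  | succ n ih => rw [pow_succ, dev_mul_right hA (A.pow_mem hx n) hx, ih, pow_succ]

theorem dev_inv {x : P} (hx : x ∈ A) (y : P) : dev y x⁻¹ = (dev y x)⁻¹ := by
  refine (inv_eq_of_mul_eq_one_right ?_).symm
  rw [← dev_mul_right hA hx (A.inv_mem hx), mul_inv_cancel]
  simp [dev]

theorem dev_dev {x y : P} (hx : x ∈ A) (hy : y * y ∈ A) :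
    dev y (dev y x) = (dev y x)⁻¹ * (dev y x)⁻¹ := by
  have h : y * y * x * (y * y)⁻¹ = x := by rw [hA.comm _ hy x hx, mul_inv_cancel_right]
  calc dev y (dev y x) = (y * y * x * (y * y)⁻¹) * (y * x⁻¹ * y⁻¹) * (dev y x)⁻¹ := by
        simp only [dev, commutatorElement_def]; group
    _ = (dev y x)⁻¹ * (dev y x)⁻¹ := by rw [h]; simp only [dev, commutatorElement_def]; group

include hR

theorem dev_pi {x : P} (hx : x ∈ A) (y : P) : (dev y x) ^ 2 ^ (f - 1) = 1 := by
  rw [← dev_pow hA hx]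
  exact commutatorElement_eq_one_iff_mul_comm.2
    (Subgroup.mem_center_iff.1 (pi_mem hA hR hx).1 y)

include hf

theorem delta_mem {x : P} (hx : x ∈ A) (y : P) : (dev y x) ^ 2 ^ (f - 2) ∈ omegaCenter P := by
  refine mem_omega_of_sq hR ?_
  rw [← pow_add, ← two_mul, ← pow_succ', show f - 2 + 1 = f - 1 by omega]
  exact dev_pi hR hA hx y

theorem delta_mul_left {x : P} (hx : x ∈ A) (y y' : P) :
    (dev (y * y') x) ^ 2 ^ (f - 2) = (dev y x) ^ 2 ^ (f - 2) * (dev y' x) ^ 2 ^ (f - 2) := by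
  have e : dev (y * y') x = (y * dev y' x * y⁻¹) * dev y x := by
    simp only [dev, commutatorElement_def]; group
  have hmem := hAn.conj_mem _ (dev_mem hA hx y') y
  rw [e, mul_pow_of_mem hA hmem (dev_mem hA hx y), conj_pow,
    omega_conj (delta_mem hR hA hf hx y')]
  exact (Subgroup.mem_center_iff.1 (delta_mem hR hA hf hx y').1 _).symm

theorem delta_eq_of_pi_eq {x x' : P} (hx : x ∈ A) (hx' : x' ∈ A)
    (h : x ^ 2 ^ (f - 1) = x' ^ 2 ^ (f - 1)) (y : P) :
    (dev y x) ^ 2 ^ (f - 2) = (dev y x') ^ 2 ^ (f - 2) := by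
  obtain ⟨s, hs, hse⟩ := exists_sq_of_pi_eq_one hA hR (A.mul_mem (A.inv_mem hx) hx') (by
    rw [mul_pow_of_mem hA (A.inv_mem hx) hx', inv_pow, h, inv_mul_cancel])
  have : x' = x * (s * s) := by rw [← hse, mul_inv_cancel_left]
  rw [this, dev_mul_right hA hx (A.mul_mem hs hs), mul_pow_of_mem hA (dev_mem hA hx y)
    (dev_mem hA (A.mul_mem hs hs) y), dev_mul_right hA hs hs,
    mul_pow_of_mem hA (dev_mem hA hs y) (dev_mem hA hs y), (delta_mem hR hA hf hs y).2, mul_one]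

theorem delta_idem {x y : P} (hx : x ∈ A) (hy : y * y ∈ A) :
    ∃ w ∈ A, w ^ 2 ^ (f - 1) = (dev y x) ^ 2 ^ (f - 2) ∧
      (dev y w) ^ 2 ^ (f - 2) = (dev y x) ^ 2 ^ (f - 2) := by
  obtain ⟨w, hw, hwe⟩ := exists_sq_of_pi_eq_one hA hR (dev_mem hA hx y) (dev_pi hR hA hx y)
  have h1 : w ^ 2 ^ (f - 1) = (dev y x) ^ 2 ^ (f - 2) := by
    rw [hwe, ← sq, ← pow_mul, ← pow_succ', show f - 2 + 1 = f - 1 by omega]
  refine ⟨w, hw, h1, ?_⟩
  have hdw : dev y w * (w * w) * (dev y w * (w * w)) = 1 := by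
    have h2 : dev y w * dev y w = (w * w)⁻¹ * (w * w)⁻¹ := by
      rw [← dev_mul_right hA hw hw, ← hwe, dev_dev hA hx hy]
    calc dev y w * (w * w) * (dev y w * (w * w))
        = dev y w * ((w * w) * dev y w) * (w * w) := by group
      _ = dev y w * (dev y w * (w * w)) * (w * w) := by
          rw [hA.comm _ (A.mul_mem hw hw) _ (dev_mem hA hw y)]
      _ = (dev y w * dev y w) * ((w * w) * (w * w)) := by group
      _ = 1 := by rw [h2]; group
  set e := dev y w * (w * w) with he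
  have hee : e ^ 2 ^ (f - 2) = 1 := by
    rw [show f - 2 = (f - 3) + 1 by omega, pow_succ', pow_mul, sq, hdw, one_pow]
  have h3 : (dev y w) ^ 2 ^ (f - 2) * w ^ 2 ^ (f - 1) = 1 := by
    rw [show f - 1 = (f - 2) + 1 by omega, pow_succ', pow_mul, sq,
      ← mul_pow_of_mem hA (dev_mem hA hw y) (A.mul_mem hw hw), ← he, hee]
  rw [← h1, eq_inv_of_mul_eq_one_left h3]
  exact inv_eq_of_mul_eq_one_right (pi_mem hA hR hw).2

/-- Every element acts on the layers of `A` trivially or as inversion does modulo fourth powers. -/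
theorem delta_dichotomy (B : Subgroup P) (hBi : KInv K B) (hsq : ∀ y ∈ B, y * y ∈ A) :
    ∀ y ∈ B, (∀ x ∈ A, (dev y x) ^ 2 ^ (f - 2) = 1) ∨
      ∀ x ∈ A, (dev y x) ^ 2 ^ (f - 2) = x ^ 2 ^ (f - 1) := by
  classical
  haveI := hR.fin
  choose X hX hXe using fun u : omegaCenter P => pi_surj hA hR u.2
  let D : P → omegaCenter P → omegaCenter P := fun y u =>
    ⟨(dev y (X u)) ^ 2 ^ (f - 2), delta_mem hR hA hf (hX u) y⟩
  have hD : ∀ (y : P) {x : P} (hx : x ∈ A),
      (D y ⟨x ^ 2 ^ (f - 1), pi_mem hA hR hx⟩ : P) = (dev y x) ^ 2 ^ (f - 2) :=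
    fun y x hx => delta_eq_of_pi_eq hR hA hf (hX _) hx (hXe _) y
  have hadd : ∀ y u v, D y (u * v) = D y u * D y v := fun y u v => Subtype.ext (by
    show _ = (dev y (X u)) ^ 2 ^ (f - 2) * (dev y (X v)) ^ 2 ^ (f - 2)
    rw [← mul_pow_of_mem hA (dev_mem hA (hX u) y) (dev_mem hA (hX v) y),
      ← dev_mul_right hA (hX u) (hX v)]
    refine delta_eq_of_pi_eq hR hA hf (hX _) (A.mul_mem (hX u) (hX v)) ?_ y
    rw [mul_pow_of_mem hA (hX u) (hX v), hXe, hXe, hXe]; rfl)
  have hsum : ∀ y y' u, D (y * y') u = D y u * D y' u := fun y y' u =>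
    Subtype.ext (delta_mul_left hR hA hf (hX u) y y')
  have hidem : ∀ y ∈ B, ∀ u, D y (D y u) = D y u := by
    intro y hy u
    obtain ⟨w, hw, h1, h2⟩ := delta_idem hR hA hf (hX u) (hsq y hy)
    have e : D y u = ⟨w ^ 2 ^ (f - 1), pi_mem hA hR hw⟩ := Subtype.ext h1.symm
    refine Subtype.ext ?_
    conv_lhs => rw [e]
    rw [hD y hw, h2]
  have hcomm : ∀ y ∈ B, ∀ y' ∈ B, ∀ u, D y (D y' u) = D y' (D y u) := by
    intro y hy y' hy' u
    have h := hidem _ (B.mul_mem hy hy') u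
    simp only [hsum, hadd, hidem y hy, hidem y' hy'] at h
    have h' := congrArg Subtype.val h
    simp only [Subgroup.coe_mul] at h'
    refine Subtype.ext ?_
    set p := (D y u : P)
    set q := (D y' u : P)
    set r := (D y (D y' u) : P)
    set s := (D y' (D y u) : P)
    have c1 : r * p = p * r := Subgroup.mem_center_iff.1 (D y u).2.1 r
    have c2 : q * r = r * q := Subgroup.mem_center_iff.1 (D y (D y' u)).2.1 q
    have h3 : r * s = 1 := by
      have c3 : p * r * (s * q) = p * (r * s) * q := by group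
      rw [c3] at h'
      exact (mul_eq_left.1 (mul_right_cancel h'))
    calc r = r * (s * s) := by rw [(D y' (D y u)).2.2, mul_one]
      _ = (r * s) * s := by group
      _ = s := by rw [h3, one_mul]
  let Ws : Set (Subgroup (omegaCenter P)) := {W | W ≠ ⊥ ∧ ∀ y ∈ B, ∀ u ∈ W, D y u ∈ W}
  obtain ⟨e₀, he₀, he₀1⟩ := exists_omega_ne_one hR
  obtain ⟨W, ⟨hWne, hWst⟩, hWmin⟩ := (Set.toFinite Ws).exists_minimal
    ⟨⊤, fun h => he₀1 (by
      have : (⟨e₀, he₀⟩ : omegaCenter P) ∈ (⊥ : Subgroup (omegaCenter P)) := h ▸ Subgroup.mem_top _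
      exact congrArg Subtype.val (Subgroup.mem_bot.1 this)), fun _ _ _ _ => Subgroup.mem_top _⟩
  -- on `W` each `D y` is trivial or the identity
  have hDone : ∀ y, D y 1 = 1 := fun y => by
    have := hadd y 1 1; rw [one_mul] at this; exact mul_eq_left.1 this.symm
  have honW : ∀ y ∈ B, (∀ u ∈ W, D y u = 1) ∨ ∀ u ∈ W, D y u = u := by
    intro y hy
    let Fx : Subgroup (omegaCenter P) :=
      { carrier := {u | u ∈ W ∧ D y u = u}
        one_mem' := ⟨W.one_mem, hDone y⟩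
        mul_mem' := fun {u v} hu hv => ⟨W.mul_mem hu.1 hv.1, by rw [hadd, hu.2, hv.2]⟩
        inv_mem' := fun {u} hu => by
          have : u⁻¹ = u := inv_eq_of_mul_eq_one_right (Subtype.ext u.2.2)
          rwa [this] }
    by_cases hF : Fx = ⊥
    · refine Or.inl fun u hu => ?_
      have : D y u ∈ Fx := ⟨hWst y hy u hu, hidem y hy u⟩
      rw [hF] at this
      exact Subgroup.mem_bot.1 this
    · refine Or.inr fun u hu => ?_
      have hle : W ≤ Fx := hWmin (y := Fx) ⟨hF, fun y' hy' v hv =>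
        ⟨hWst y' hy' v hv.1, by rw [hcomm y hy y' hy', hv.2]⟩⟩ (fun v hv => hv.1)
      exact (hle hu).2
  obtain ⟨u₀, hu₀, hu₀1⟩ := (Subgroup.ne_bot_iff_exists_ne_one.1 hWne) |> fun ⟨⟨u, hu⟩, h⟩ =>
    (⟨u, hu, fun e => h (Subtype.ext e)⟩ : ∃ u, u ∈ W ∧ u ≠ 1)
  -- every element is an eigenvector of every `D y`
  have heig : ∀ y ∈ B, ∀ u, D y u = 1 ∨ D y u = u := by
    intro y hy u
    by_cases hu : u = 1
    · left; rw [hu, hDone]
    obtain ⟨k, hk, -⟩ := hR.reg u₀ u (fun h => hu₀1 (Subtype.ext h)) u₀.2.2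
      (fun h => hu (Subtype.ext h)) u.2.2
    set y' := (k : MulAut P).symm y with hy'
    have hy'B : y' ∈ B := hBi _ (K.inv_mem k.2) y hy
    have hDe : (D y u : P) = (k : MulAut P) (D y' u₀ : P) := by
      show (dev y (X u)) ^ 2 ^ (f - 2) = (k : MulAut P) ((dev y' (X u₀)) ^ 2 ^ (f - 2))
      rw [map_pow, map_commutatorElement, hy', MulEquiv.apply_symm_apply]
      refine delta_eq_of_pi_eq hR hA hf (hX u) (hA.inv _ k.2 _ (hX u₀)) ?_ y
      rw [← map_pow, hXe, hXe, hk]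
    rcases honW y' hy'B with h | h
    · left; refine Subtype.ext ?_; rw [hDe, h u₀ hu₀]; exact map_one _
    · right; refine Subtype.ext ?_; rw [hDe, h u₀ hu₀, hk]
  intro y hy
  by_cases hz : ∀ u, D y u = 1
  · refine Or.inl fun x hx => ?_
    rw [← hD y hx, hz]; rfl
  push Not at hz
  obtain ⟨u₁, hu₁⟩ := hz
  have h1 : D y u₁ = u₁ := (heig y hy u₁).resolve_left hu₁
  refine Or.inr fun x hx => ?_
  rw [← hD y hx]
  have hid : ∀ u, D y u = u := by
    intro u
    rcases heig y hy u with h | h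
    · rcases heig y hy (u₁ * u) with h' | h'
      · rw [hadd, h1, h, mul_one] at h'
        exact absurd (h1.trans h') hu₁
      · rw [hadd, h1, h] at h'
        rw [h, mul_left_cancel h']
    · exact h
  rw [hid]

/-- If the first deviation is trivial, the deviation takes values in the involutions. -/
theorem dev_mem_omega {y : P} (hy : y * y ∈ A)
    (h0 : ∀ x ∈ A, (dev y x) ^ 2 ^ (f - 2) = 1) {x : P} (hx : x ∈ A) :
    dev y x ∈ omegaCenter P := by
  have h2 : ∀ x ∈ A, ∃ s ∈ A, dev y x = s ^ 2 ^ 2 := by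
    intro x hx
    obtain ⟨w, hw, hwe⟩ := exists_sq_of_pi_eq_one hA hR (dev_mem hA hx y) (dev_pi hR hA hx y)
    have : w ^ 2 ^ (f - 1) = 1 := by
      rw [show f - 1 = (f - 2) + 1 by omega, pow_succ', pow_mul, sq, ← hwe]; exact h0 x hx
    obtain ⟨s, hs, hse⟩ := exists_sq_of_pi_eq_one hA hR hw this
    exact ⟨s, hs, by rw [hwe, hse, show (2:ℕ) ^ 2 = 2 + 2 from rfl, pow_add, sq]⟩
  have hall : ∀ i, 2 ≤ i → i ≤ f - 1 → ∀ x ∈ A, ∃ s ∈ A, dev y x = s ^ 2 ^ i := by
    intro i hi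
    induction i, hi using Nat.le_induction with
    | base => exact fun _ => h2
    | succ i hi ih =>
      intro hif x hx
      obtain ⟨s, hs, hse⟩ := ih (by omega) x hx
      obtain ⟨r, hr, hre⟩ := ih (by omega) s hs
      have h3 : (dev y x)⁻¹ * (dev y x)⁻¹ = r ^ 2 ^ (i + i) := by
        rw [← dev_dev hA hx hy, hse, dev_pow hA hs, hre, ← pow_mul, ← pow_add]
      obtain ⟨z, hz, hze⟩ := exists_pow_of_mem_sq hA hR (i := i + 1) hif
        (A.inv_mem (dev_mem hA hx y)) (r := r ^ 2 ^ (i + i - (i + 1 + 1))) (A.pow_mem hr _)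
        (by rw [h3, ← pow_mul, ← pow_add]; congr 2; omega)
      exact ⟨z⁻¹, A.inv_mem hz, by rw [inv_pow, ← hze, inv_inv]⟩
  obtain ⟨s, hs, hse⟩ := hall (f - 1) (by omega) le_rfl x hx
  rw [hse]
  exact pi_mem hA hR hs

theorem eq_bot_step (hC : Subgroup.centralizer (A : Set P) = A) :
    stepSubgroup A (⊤ : Subgroup P) ≤ A := by
  classical
  haveI := hR.fin
  set B := stepSubgroup A (⊤ : Subgroup P) with hB
  have hBi : KInv K B := stepSubgroup_kInv hA.inv (fun _ _ _ _ => Subgroup.mem_top _)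
  have hsq : ∀ y ∈ B, y * y ∈ A := fun y hy => (mem_stepSubgroup.1 hy).1.1
  have hcA : ∀ y ∈ B, ∀ g, ⁅y, g⁆ ∈ A := fun y hy => (mem_stepSubgroup.1 hy).1.2
  have hAB : A ≤ B := (stepSubgroup_normal le_top).2
  let B₀ : Subgroup P :=
    { carrier := {y | y ∈ B ∧ ∀ x ∈ A, (dev y x) ^ 2 ^ (f - 2) = 1}
      one_mem' := ⟨B.one_mem, fun x _ => by simp [dev]⟩
      mul_mem' := fun {y y'} hy hy' => ⟨B.mul_mem hy.1 hy'.1, fun x hx => by
        rw [delta_mul_left hR hA hf hx, hy.2 x hx, hy'.2 x hx, one_mul]⟩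
      inv_mem' := fun {y} hy => ⟨B.inv_mem hy.1, fun x hx => by
        have := delta_mul_left hR hA hf hx y⁻¹ y
        rw [inv_mul_cancel, hy.2 x hx, mul_one] at this
        rw [← this]; simp [dev]⟩ }
  have hB₀i : KInv K B₀ := fun k hk y hy => ⟨hBi k hk y hy.1, fun x hx => by
    have h := congrArg k (hy.2 (k.symm x) (hA.inv k⁻¹ (K.inv_mem hk) x hx))
    rwa [map_pow, map_commutatorElement, MulEquiv.apply_symm_apply, map_one] at h⟩
  have hom : ∀ y ∈ B₀, ∀ x ∈ A, dev y x ∈ omegaCenter P := fun y hy x hx =>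
    dev_mem_omega hR hA hf (hsq y hy.1) hy.2 hx
  have hk₂ : ∀ y ∈ B₀, ∀ x ∈ A, x ^ 2 ^ (f - 1) = 1 → dev y x = 1 := by
    intro y hy x hx h
    obtain ⟨s, hs, rfl⟩ := exists_sq_of_pi_eq_one hA hR hx h
    rw [dev_mul_right hA hs hs, (hom y hy s hs).2]
  have hker : ∀ y ∈ B₀, (y * y) ^ 2 ^ (f - 1) = 1 → y ∈ A := by
    intro y hy h
    obtain ⟨a, ha, hay⟩ := exists_sq_of_pi_eq_one hA hR (hsq y hy.1) h
    obtain ⟨v, hv, hve⟩ := pi_surj hA hR (hom y hy a ha)
    set u := v ^ 2 ^ (f - 2) with hu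
    have huA : u ∈ A := A.pow_mem hv _
    have huu : u * u = dev y a := by
      rw [hu, ← pow_add, ← two_mul, ← pow_succ', show f - 2 + 1 = f - 1 by omega, hve]
    have hdu : dev y u = 1 := hk₂ y hy u huA (by
      rw [hu, ← pow_mul, ← pow_add, show f - 2 + (f - 1) = f + (f - 3) by omega, pow_add, pow_mul,
        hA.pow_eq v hv, one_pow])
    set x := a⁻¹ * u with hx
    have hxA : x ∈ A := A.mul_mem (A.inv_mem ha) huA
    have hdx : dev y x = (dev y a)⁻¹ := by
      rw [hx, dev_mul_right hA (A.inv_mem ha) huA, hdu, mul_one, dev_inv hA ha]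
    have hxy : x * y * (x * y) = 1 := by
      calc x * y * (x * y) = x * (dev y x * x) * (y * y) := by
            simp only [dev, commutatorElement_def]; group
        _ = x * (x * dev y x) * (a * a) := by rw [hA.comm _ (dev_mem hA hxA y) x hxA, hay]
        _ = (x * x) * (u * u)⁻¹ * (a * a) := by rw [hdx, huu]; group
        _ = 1 := by
          have cu : a⁻¹ * u = u * a⁻¹ := hA.comm _ (A.inv_mem ha) u huA
          have e1 : x * x = u * u * (a * a)⁻¹ := by
            calc x * x = a⁻¹ * (u * a⁻¹) * u := by rw [hx]; group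
              _ = (a⁻¹ * a⁻¹) * (u * u) := by rw [← cu]; group
              _ = _ := by
                rw [hA.comm _ (A.mul_mem (A.inv_mem ha) (A.inv_mem ha)) _ (A.mul_mem huA huA)]
                group
          have e2 : (a * a)⁻¹ * (u * u)⁻¹ = (u * u)⁻¹ * (a * a)⁻¹ :=
            hA.comm _ (A.inv_mem (A.mul_mem ha ha)) _ (A.inv_mem (A.mul_mem huA huA))
          rw [e1, mul_assoc (u * u), e2]; group
    have := omega_le_A hA hR (mem_omega_of_sq hR hxy)
    simpa using A.mul_mem (A.inv_mem hxA) this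
  have hB₀A : B₀ ≤ A := by
    intro y hy
    by_contra hyA
    have key := pairing_eq_one hR B₀ A (fun y => (y * y) ^ 2 ^ (f - 1)) (fun x => x ^ 2 ^ (f - 1))
      dev hB₀i hA.inv (fun y hy => pi_mem hA hR (hsq y hy.1)) (fun x hx => pi_mem hA hR hx)
      ?_ (fun x hx x' hx' => mul_pow_of_mem hA hx hx' _)
      (fun k _ y _ => by simp only [map_pow, map_mul]) (fun k _ x _ => (map_pow k x _).symm)
      ⟨y, hy, fun h => hyA (hker y hy h)⟩ hA.exists_ne hom ?_
      (fun y _ x hx x' hx' => dev_mul_right hA hx hx' y)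
      (fun k _ y _ x _ => (map_commutatorElement k y x).symm)
      (fun y hy x hx h => commutatorElement_eq_one_iff_mul_comm.2 (hA.comm y (hker y hy h) x hx))
      hk₂ ?_
    · exact hyA (hC ▸ Subgroup.mem_centralizer_iff.2 fun x hx =>
        (commutatorElement_eq_one_iff_mul_comm.1 (key y hy x hx)).symm)
    · intro y hy y' hy'
      set c := dev y' y with hc
      have hcm : c ∈ A := hcA y' hy'.1 y
      have h1 : y' * y * y'⁻¹ = c * y := by rw [hc]; simp only [dev, commutatorElement_def]; group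
      have h2 : dev y' (y * y) = c * c * dev y c := by
        calc dev y' (y * y) = (y' * y * y'⁻¹) * (y' * y * y'⁻¹) * (y * y)⁻¹ := by
              simp only [dev, commutatorElement_def]; group
          _ = c * (dev y c * c) := by rw [h1]; simp only [dev, commutatorElement_def]; group
          _ = _ := by rw [hA.comm _ (dev_mem hA hcm y) c hcm, mul_assoc]
      have hcc : c * c ∈ omegaCenter P := by
        have h3 := hom y' hy' (y * y) (hsq y hy.1)
        rw [h2] at h3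
        have := Subgroup.mul_mem _ h3 (Subgroup.inv_mem _ (hom y hy c hcm))
        rwa [mul_inv_cancel_right] at this
      have h4 : (y * c * y⁻¹) ^ 2 ^ (f - 1) = 1 := by
        have hc4 : c ^ (2 ^ 2) = 1 := by
          rw [show (2:ℕ) ^ 2 = 2 + 2 from rfl, pow_add, sq, hcc.2]
        rw [conj_pow, show f - 1 = 2 + (f - 3) by omega, pow_add, pow_mul, hc4, one_pow, mul_one,
          mul_inv_cancel]
      have e : y * y' * (y * y') = (y * c * y⁻¹) * ((y * y) * (y' * y')) := by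
        rw [hc]; simp only [dev, commutatorElement_def]; group
      show (y * y' * (y * y')) ^ 2 ^ (f - 1) = _
      rw [e, mul_pow_of_mem hA (hAn.conj_mem _ hcm y) (A.mul_mem (hsq y hy.1) (hsq y' hy'.1)), h4,
        one_mul, mul_pow_of_mem hA (hsq y hy.1) (hsq y' hy'.1)]
    · intro y hy y' hy' x hx
      have e : dev (y * y') x = (y * dev y' x * y⁻¹) * dev y x := by
        simp only [dev, commutatorElement_def]; group
      rw [e, omega_conj (hom y' hy' x hx)]
      exact (Subgroup.mem_center_iff.1 (hom y' hy' x hx).1 _).symm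
    · intro y hy x hx h
      have h1 : dev y (y * y) = 1 := by simp only [dev, commutatorElement_def]; group
      have hmem := A.mul_mem (A.inv_mem (hsq y hy.1)) hx
      have h2 : dev y ((y * y)⁻¹ * x) = 1 := hk₂ y hy _ hmem (by
        rw [mul_pow_of_mem hA (A.inv_mem (hsq y hy.1)) hx, inv_pow, ← h, inv_mul_cancel])
      have h3 := dev_mul_right hA (hsq y hy.1) hmem y
      rwa [h1, h2, mul_inv_cancel_left, mul_one] at h3
  intro y hy
  rcases delta_dichotomy hR hA hf B hBi hsq y hy with h | h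
  · exact hB₀A ⟨hy, h⟩
  by_contra hyA
  obtain ⟨k, hk, hk1⟩ := exists_ne_one_K hR
  have hky : k y ∈ B := hBi k hk y hy
  have h' : ∀ x ∈ A, (dev (k y) x) ^ 2 ^ (f - 2) = x ^ 2 ^ (f - 1) := by
    intro x hx
    have := congrArg k (h (k.symm x) (hA.inv k⁻¹ (K.inv_mem hk) x hx))
    rwa [map_pow, map_commutatorElement, MulEquiv.apply_symm_apply, map_pow,
      MulEquiv.apply_symm_apply] at this
  have ha : y⁻¹ * k y ∈ A := hB₀A ⟨B.mul_mem (B.inv_mem hy) hky, fun x hx => by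
    have h1 := delta_mul_left hR hA hf hx y (y⁻¹ * k y)
    rw [mul_inv_cancel_left, h' x hx, h x hx] at h1
    exact mul_eq_left.1 h1.symm⟩
  let φ : A → A := fun x => ⟨(x : P) * (k x)⁻¹, A.mul_mem x.2 (A.inv_mem (hA.inv k hk x x.2))⟩
  have hinj : Function.Injective φ := by
    intro x x' he
    have he' : (x : P) * (k x)⁻¹ = (x' : P) * (k x')⁻¹ := congrArg Subtype.val he
    have hfix : k ((x' : P)⁻¹ * x) = (x' : P)⁻¹ * x := by
      rw [map_mul, map_inv]
      calc (k x')⁻¹ * k x = (x' : P)⁻¹ * ((x' : P) * (k x')⁻¹) * k x := by group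
        _ = (x' : P)⁻¹ * x := by rw [← he']; group
    exact Subtype.ext (inv_mul_eq_one.1 (fixedPointFree hR hk hk1 hfix)).symm
  obtain ⟨⟨x, hx⟩, hxe⟩ := (Finite.injective_iff_surjective.1 hinj) ⟨_, ha⟩
  have hxe' : x * (k x)⁻¹ = y⁻¹ * k y := congrArg Subtype.val hxe
  have : k (y * x) = y * x := by
    rw [map_mul]
    calc k y * k x = y * (y⁻¹ * k y) * k x := by group
      _ = y * x := by rw [← hxe']; group
  exact hyA (by rw [eq_inv_of_mul_eq_one_left (fixedPointFree hR hk hk1 this)]; exact A.inv_mem hx)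

end outer

/-- The centre of a nonabelian 2-group with a cyclic group of automorphisms regular on involutions
has exponent two. -/
theorem center_sq_eq_one (hR : RegularInv K) (hna : ∃ x y : P, x * y ≠ y * x) {z : P}
    (hz : z ∈ Subgroup.center P) : z * z = 1 := by
  classical
  haveI := hR.fin
  by_contra hz2
  set Z := Subgroup.center P with hZ
  have hZi : KInv K Z := fun k _ x hx => Subgroup.mem_center_iff.2 fun g => by
    have h := congrArg k (Subgroup.mem_center_iff.1 hx (k.symm g))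
    rwa [map_mul, map_mul, MulEquiv.apply_symm_apply] at h
  have hZc : ∀ a ∈ Z, ∀ b ∈ Z, a * b = b * a := fun a _ b hb => Subgroup.mem_center_iff.1 hb a
  obtain ⟨e, hZd⟩ := exists_homoData hR hZc hZi
    (fun h => hz2 (by rw [h, Subgroup.mem_bot] at hz; rw [hz, one_mul]))
  have he2 : 2 ≤ e := by
    by_contra h
    have := hZd.pow_eq z hz
    rw [show e = 1 by have := one_le_f hZd; omega, pow_one, sq] at this
    exact hz2 this
  let S : Set (Subgroup P) :=
    {A | A.Normal ∧ (∀ a ∈ A, ∀ b ∈ A, a * b = b * a) ∧ KInv K A ∧ Z ≤ A}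
  obtain ⟨A, ⟨hAn, hAc, hAi, hZA⟩, hmax⟩ := (Set.toFinite S).exists_maximal
    ⟨Z, inferInstance, hZc, hZi, le_rfl⟩
  haveI := hAn
  have hAne : A ≠ ⊥ := fun h => hz2 (by
    have := hZA hz; rw [h, Subgroup.mem_bot] at this; rw [this, one_mul])
  obtain ⟨f, hA⟩ := exists_homoData hR hAc hAi hAne
  have hef : e ≤ f := by
    by_contra h
    obtain ⟨a, ha, hne⟩ := hZd.exists_ne
    apply hne
    rw [show e - 1 = f + (e - 1 - f) by omega, pow_add, pow_mul, hA.pow_eq a (hZA ha), one_pow]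
  set C := Subgroup.centralizer (A : Set P) with hCdef
  have hCn : C.Normal := Subgroup.normal_centralizer
  have hAC : A ≤ C := fun a ha => Subgroup.mem_centralizer_iff.2 fun b hb => hAc b hb a ha
  rcases eq_or_lt_of_le hAC with hC | hC
  · have hAtop : A < ⊤ := lt_top_iff_ne_top.2 fun h => by
      obtain ⟨x, y, hxy⟩ := hna
      exact hxy (hAc x (h ▸ Subgroup.mem_top x) y (h ▸ Subgroup.mem_top y))
    have hne : A ≠ Z := fun h => hAtop.ne (top_unique fun g _ => by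
      rw [hC]
      exact Subgroup.mem_centralizer_iff.2 fun a ha =>
        (Subgroup.mem_center_iff.1 (h ▸ ha : a ∈ Z) g).symm)
    have hf3 : 3 ≤ f := by
      by_contra h3
      apply hne
      refine le_antisymm (fun a ha => ?_) hZA
      have key : ∀ j, j ≤ e → ∀ a ∈ A, a ^ 2 ^ j = 1 → a ∈ Z := by
        intro j
        induction j with
        | zero => intro _ a _ h; rw [pow_zero, pow_one] at h; rw [h]; exact Z.one_mem
        | succ j ih =>
          intro hj a ha h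
          obtain ⟨w, hw, hwe⟩ := omega_pow hZd hR (j := j) (by omega)
            (mem_omega_of_sq hR (x := a ^ 2 ^ j) (by rw [← pow_add, ← two_mul, ← pow_succ', h]))
          have := ih (by omega) (a * w⁻¹) (A.mul_mem ha (A.inv_mem (hZA hw))) (by
            rw [mul_pow_of_mem hA ha (A.inv_mem (hZA hw)), inv_pow, hwe, mul_inv_cancel])
          simpa using Z.mul_mem this hw
      exact key f (by omega) a ha (hA.pow_eq a ha)
    exact (lt_stepSubgroup hR.isPGroup hAtop).not_ge (eq_bot_step hR hA hf3 hC.symm)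
  · haveI := hCn
    have hlt := lt_stepSubgroup hR.isPGroup hC
    obtain ⟨hBn, -⟩ := stepSubgroup_normal hC.le
    exact hlt.not_ge (hmax ⟨hBn, stepSubgroup_comm hR hA (le_trans he2 hef) hlt,
      stepSubgroup_kInv hAi (centralizer_kInv hAi), hZA.trans hlt.le⟩ hlt.le)

end CfsgLib.SuzukiTwo
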