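import Mathlib

/-! Additive, biadditive and quadratic maps of a finite field of characteristic two as
combinations of field automorphisms. -/

set_option autoImplicit false

namespace CfsgLib.SuzukiTwo

variable {F : Type*} [Field F] [Fintype F] [CharP F 2]

theorem linearIndependent_autos :
    LinearIndependent F (fun σ : F ≃+* F => ((σ : F →+* F) : F → F)) :=
  (linearIndependent_monoidHom F F).comp (fun σ : F ≃+* F => ((σ : F →+* F) : F →* F))
    (fun σ τ h => RingEquiv.ext fun x => DFunLike.congr_fun h x)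

theorem exists_autos_of_additive [Fintype (F ≃+* F)] (f : F →+ F) :
    ∃ c : (F ≃+* F) → F, ∀ x, f x = ∑ σ, c σ * σ x := by
  classical
  haveI : Fact (Nat.Prime 2) := ⟨Nat.prime_two⟩
  letI : Algebra (ZMod 2) F := ZMod.algebra F 2
  set n := Module.finrank (ZMod 2) F with hn
  let b : Module.Basis (Fin n) (ZMod 2) F := Module.finBasis (ZMod 2) F
  have hle : n ≤ Fintype.card (F ≃+* F) := by
    have h := IsGalois.card_aut_eq_finrank (ZMod 2) F
    rw [hn, ← h, ← Nat.card_eq_fintype_card]
    exact Nat.card_le_card_of_injective (fun σ : Gal(F/ZMod 2) => σ.toRingEquiv)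
      (fun σ τ h => AlgEquiv.ext fun x => RingEquiv.congr_fun h x)
  -- the map from coefficient vectors to values on a basis
  let Φ : ((F ≃+* F) → F) → (Fin n → F) := fun c i => ∑ σ, c σ * σ (b i)
  have ext_basis : ∀ g : F →+ F, (∀ i, g (b i) = 0) → ∀ x, g x = 0 := by
    intro g hg x
    rw [← b.sum_repr x, map_sum]
    refine Finset.sum_eq_zero fun i _ => ?_
    have : g ((b.repr x i : ZMod 2) • b i) = (b.repr x i : ZMod 2) • g (b i) :=
      ZMod.map_smul g _ _
    rw [this, hg, smul_zero]
  let mk : ((F ≃+* F) → F) → (F →+ F) := fun c =>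
    ∑ σ : F ≃+* F, (AddMonoidHom.mulLeft (c σ)).comp (σ : F →+* F).toAddMonoidHom
  have hmk : ∀ c x, mk c x = ∑ σ, c σ * σ x := fun c x => by
    simp [mk, AddMonoidHom.finsetSum_apply]
  have hinj : Function.Injective Φ := by
    intro c d hcd
    have h0 : ∀ x, (mk c - mk d) x = 0 := ext_basis _ fun i => by
      have := congrFun hcd i
      simp only [Φ] at this
      rw [AddMonoidHom.sub_apply, hmk, hmk, this, sub_self]
    have := Fintype.linearIndependent_iff.1 (linearIndependent_autos (F := F)) (fun σ => c σ - d σ) (by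
      funext x
      have hx := h0 x
      rw [AddMonoidHom.sub_apply, hmk, hmk, ← Finset.sum_sub_distrib] at hx
      simpa [Finset.sum_apply, sub_mul] using hx)
    funext σ
    exact sub_eq_zero.1 (this σ)
  have hcard : Fintype.card ((F ≃+* F) → F) = Fintype.card (Fin n → F) := by
    refine le_antisymm (Fintype.card_le_of_injective _ hinj) ?_
    simp only [Fintype.card_fun, Fintype.card_fin]
    exact Nat.pow_le_pow_right Fintype.card_pos hle
  obtain ⟨c, hc⟩ := ((Fintype.bijective_iff_injective_and_card Φ).2 ⟨hinj, hcard⟩).2 (fun i => f (b i))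
  refine ⟨c, fun x => ?_⟩
  have := ext_basis (f - mk c) (fun i => by
    have := congrFun hc i
    simp only [Φ] at this
    rw [AddMonoidHom.sub_apply, hmk, this, sub_self]) x
  rw [AddMonoidHom.sub_apply, sub_eq_zero] at this
  rw [this, hmk]

theorem exists_coords : ∃ (n : ℕ) (e : Fin n → F) (l : Fin n → (F →+ F)),
    (∀ x, x = ∑ i, l i x * e i) ∧ (∀ i x, l i x = 0 ∨ l i x = 1) := by
  haveI : Fact (Nat.Prime 2) := ⟨Nat.prime_two⟩
  letI : Algebra (ZMod 2) F := ZMod.algebra F 2
  let b := Module.finBasis (ZMod 2) F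
  refine ⟨_, b, fun i => (algebraMap (ZMod 2) F).toAddMonoidHom.comp (b.coord i).toAddMonoidHom,
    fun x => ?_, fun i x => ?_⟩
  · conv_lhs => rw [← b.sum_repr x]
    exact Finset.sum_congr rfl fun i _ => Algebra.smul_def _ _
  · show algebraMap (ZMod 2) F (b.repr x i) = 0 ∨ algebraMap (ZMod 2) F (b.repr x i) = 1
    have h2 : ∀ z : ZMod 2, z = 0 ∨ z = 1 := fun z => by
      revert z; exact Fin.forall_fin_two.2 ⟨Or.inl rfl, Or.inr rfl⟩
    rcases h2 (b.repr x i) with h | h <;> rw [h]
    · exact Or.inl (map_zero _)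
    · exact Or.inr (map_one _)

theorem biadd_eq_sum {n : ℕ} {e : Fin n → F} {l : Fin n → (F →+ F)}
    (he : ∀ x, x = ∑ i, l i x * e i) (hl : ∀ i x, l i x = 0 ∨ l i x = 1)
    (B : F →+ F →+ F) (x y : F) : B x y = ∑ i, ∑ j, l i x * l j y * B (e i) (e j) := by
  have key : ∀ (g : F →+ F) (z : F), g z = ∑ i, l i z * g (e i) := fun g z => by
    conv_lhs => rw [he z]
    rw [map_sum]
    refine Finset.sum_congr rfl fun i _ => ?_
    rcases hl i z with h | h <;> simp [h]
  calc B x y = ∑ i, l i x * B (e i) y := key (B.flip y) x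
    _ = _ := Finset.sum_congr rfl fun i _ => by
      rw [key (B (e i)) y, Finset.mul_sum]; simp only [mul_assoc]

theorem exists_autos_of_biadditive [Fintype (F ≃+* F)] (B : F →+ F →+ F) :
    ∃ c : (F ≃+* F) × (F ≃+* F) → F, ∀ x y, B x y = ∑ p, c p * (p.1 x * p.2 y) := by
  obtain ⟨n, e, l, he, hl⟩ := exists_coords (F := F)
  choose c hc using fun i => exists_autos_of_additive (l i)
  refine ⟨fun p => ∑ i, ∑ j, B (e i) (e j) * (c i p.1 * c j p.2), fun x y => ?_⟩
  rw [biadd_eq_sum he hl B x y]
  simp only [hc, Finset.sum_mul, Finset.mul_sum]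
  rw [Finset.sum_comm (f := fun (p : (F ≃+* F) × (F ≃+* F)) i => _)]
  refine Finset.sum_congr rfl fun i _ => ?_
  rw [Finset.sum_comm (f := fun (p : (F ≃+* F) × (F ≃+* F)) j => _)]
  refine Finset.sum_congr rfl fun j _ => ?_
  rw [Fintype.sum_prod_type, Finset.sum_comm]
  refine Finset.sum_congr rfl fun σ _ => Finset.sum_congr rfl fun τ _ => ?_
  ring

theorem exists_autos_of_quadratic [Fintype (F ≃+* F)] (q : F → F)
    (hq : ∀ x y z : F, q (x + y + z) + q (x + y) + q (x + z) + q (y + z) + q x + q y + q z = 0) :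
    ∃ c : (F ≃+* F) × (F ≃+* F) → F, ∀ x, q x = ∑ p, c p * (p.1 x * p.2 x) := by
  classical
  obtain ⟨n, e, l, he, hl⟩ := exists_coords (F := F)
  have h2 : ∀ a : F, a + a = 0 := CharTwo.add_self_eq_zero
  have h0 : q 0 = 0 := by
    have h := hq 0 0 0
    simp only [add_zero, h2, zero_add] at h
    exact h
  let P : F →+ F →+ F := AddMonoidHom.mk' (fun x => AddMonoidHom.mk'
      (fun y => q (x + y) + q x + q y) (fun y z => by
        have h := hq x y z
        rw [← add_assoc x y z]
        linear_combination h - h2 (q x) - h2 (q (x + y)) - h2 (q (x + z)) - h2 (q y) - h2 (q z)))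
    (fun x y => by
      ext z
      simp only [AddMonoidHom.mk'_apply, AddMonoidHom.add_apply]
      have h := hq x y z
      linear_combination h - h2 (q x) - h2 (q y) - h2 (q (x + z)) - h2 (q (y + z)) - h2 (q z))
  let A : F →+ F →+ F := AddMonoidHom.mk' (fun x => AddMonoidHom.mk'
      (fun y => ∑ i, ∑ j, l i x * l j y * (if i < j then P (e i) (e j) else 0))
      (fun y z => by simp only [map_add, mul_add, add_mul, Finset.sum_add_distrib]))
    (fun x y => by
      ext z
      simp only [AddMonoidHom.mk'_apply, AddMonoidHom.add_apply, map_add, add_mul,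
        Finset.sum_add_distrib])
  have hP : ∀ x y, P x y = A x y + A y x := by
    intro x y
    rw [biadd_eq_sum he hl P x y]
    show _ = (∑ i, ∑ j, l i x * l j y * (if i < j then P (e i) (e j) else 0)) +
      ∑ i, ∑ j, l i y * l j x * (if i < j then P (e i) (e j) else 0)
    rw [Finset.sum_comm (f := fun i j => l i y * l j x * (if i < j then P (e i) (e j) else 0)),
      ← Finset.sum_add_distrib]
    refine Finset.sum_congr rfl fun i _ => ?_
    rw [← Finset.sum_add_distrib]
    refine Finset.sum_congr rfl fun j _ => ?_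
    have hsym : P (e j) (e i) = P (e i) (e j) := by
      simp only [P, AddMonoidHom.mk'_apply, add_comm (e j) (e i)]; ring
    rcases lt_trichotomy i j with h | h | h
    · rw [if_pos h, if_neg h.asymm]; ring
    · subst h
      rw [if_neg (lt_irrefl i)]
      have : P (e i) (e i) = 0 := by
        simp only [P, AddMonoidHom.mk'_apply, h2, h0, zero_add]
      rw [this]; ring
    · rw [if_neg h.asymm, if_pos h, hsym]; ring
  let r : F →+ F := AddMonoidHom.mk' (fun x => q x + A x x) (fun x y => by
    have hxy : q (x + y) + q x + q y = A x y + A y x := hP x y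
    simp only [map_add, AddMonoidHom.add_apply]
    linear_combination hxy - h2 (q x) - h2 (q y) + h2 (A x y) + h2 (A y x))
  obtain ⟨cA, hcA⟩ := exists_autos_of_biadditive A
  obtain ⟨cr, hcr⟩ := exists_autos_of_additive r
  haveI : Fact (Nat.Prime 2) := ⟨Nat.prime_two⟩
  let half : (F ≃+* F) → (F ≃+* F) := fun σ => σ.trans (frobeniusEquiv F 2).symm
  have hhalf : ∀ (σ : F ≃+* F) (x : F), half σ x * half σ x = σ x := fun σ x => by
    rw [← sq]
    exact (frobeniusEquiv F 2).apply_symm_apply (σ x)
  refine ⟨fun p => cA p + ∑ σ, if p = (half σ, half σ) then cr σ else 0, fun x => ?_⟩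
  have hqx : q x = r x + A x x := by
    show q x = q x + A x x + A x x
    rw [add_assoc, h2, add_zero]
  rw [hqx, hcr, hcA, add_comm]
  simp only [add_mul, Finset.sum_add_distrib, Finset.sum_mul, ite_mul, zero_mul]
  congr 1
  rw [Finset.sum_comm]
  refine Finset.sum_congr rfl fun σ _ => ?_
  rw [Finset.sum_ite_eq' Finset.univ (half σ, half σ), if_pos (Finset.mem_univ _), hhalf]

end CfsgLib.SuzukiTwo
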