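import Mathlib

/-! An anisotropic family of `n` quadratic forms over the field with two elements lives in dimension
at most `2 n`. -/

set_option autoImplicit false

namespace CfsgLib.SuzukiTwo

theorem pow_succ_dvd_of_sq : ∀ (n m : ℕ), 2 ^ (2 * n + 1) ∣ m * m → 2 ^ (n + 1) ∣ m := by
  intro n
  induction n with
  | zero =>
    intro m h
    simpa using (Nat.prime_two.dvd_mul.1 (by simpa using h)).elim id id
  | succ n ih =>
    intro m h
    obtain ⟨k, rfl⟩ : 2 ∣ m := (Nat.prime_two.dvd_mul.1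
      ((dvd_pow_self 2 (by omega)).trans h)).elim id id
    rw [show 2 * (n + 1) + 1 = (2 * n + 1) + 2 by ring, pow_add,
      show 2 * k * (2 * k) = k * k * 2 ^ 2 by ring] at h
    rw [pow_succ']
    exact mul_dvd_mul_left 2 (ih k (Nat.dvd_of_mul_dvd_mul_right (by norm_num) h))

variable {V : Type*} [AddCommGroup V] [Fintype V]

/-- `-1` to the power of an element of `ZMod 2`. -/
def sgn (z : ZMod 2) : ℤ := if z = 0 then 1 else -1

theorem sgn_add : ∀ y z : ZMod 2, sgn (y + z) = sgn y * sgn z := by decide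

theorem sgn_self : ∀ z : ZMod 2, sgn z * sgn z = 1 := by decide

theorem card_dvd_sq_sum (q : V → ZMod 2) (b : V → V →+ ZMod 2)
    (hb : ∀ u v, q (v + u) = q v + q u + b u v) :
    (Fintype.card V : ℤ) ∣ (∑ v, sgn (q v)) * ∑ v, sgn (q v) := by
  classical
  have h : (∑ v, sgn (q v)) * ∑ v, sgn (q v) = ∑ u, sgn (q u) * ∑ v, sgn (b u v) := by
    rw [Finset.sum_mul_sum]
    calc ∑ v, ∑ w, sgn (q v) * sgn (q w) = ∑ v, ∑ u, sgn (q v) * sgn (q (v + u)) := by
          refine Finset.sum_congr rfl fun v _ => ?_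
          exact (Equiv.sum_comp (Equiv.addLeft v) fun w => sgn (q v) * sgn (q w)).symm
      _ = ∑ v, ∑ u, sgn (q u) * sgn (b u v) := by
          refine Finset.sum_congr rfl fun v _ => Finset.sum_congr rfl fun u _ => ?_
          rw [hb, sgn_add, sgn_add, ← mul_assoc, ← mul_assoc, sgn_self, one_mul]
      _ = _ := by rw [Finset.sum_comm]; simp only [Finset.mul_sum]
  rw [h]
  refine Finset.dvd_sum fun u _ => Dvd.dvd.mul_left ?_ _
  by_cases hz : ∀ v, b u v = 0
  · simp [hz, sgn]
  push Not at hz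
  obtain ⟨v₀, hv₀⟩ := hz
  have h1 : ∑ v, sgn (b u v) = - ∑ v, sgn (b u v) := by
    rw [← Finset.sum_neg_distrib]
    calc ∑ v, sgn (b u v) = ∑ v, sgn (b u (v + v₀)) :=
          (Equiv.sum_comp (Equiv.addRight v₀) fun v => sgn (b u v)).symm
      _ = _ := Finset.sum_congr rfl fun v _ => by
          rw [map_add, sgn_add, show sgn (b u v₀) = -1 from if_neg hv₀, mul_neg, mul_one]
  rw [show ∑ v, sgn (b u v) = 0 by omega]
  exact dvd_zero _

theorem card_le_of_anisotropic {n d : ℕ} (hd : Fintype.card V = 2 ^ d)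
    (Q : V → Fin n → ZMod 2) (hQ : ∀ v, Q v = 0 ↔ v = 0)
    (hB : ∀ u v w, Q (u + v + w) + Q (u + v) + Q (u + w) + Q (v + w) + Q u + Q v + Q w = 0) :
    d ≤ 2 * n := by
  classical
  by_contra hlt
  push Not at hlt
  have h2 : ∀ z : ZMod 2, z + z = 0 := CharTwo.add_self_eq_zero
  have key : ∀ T : Finset (Fin n), (2 ^ (n + 1) : ℤ) ∣ ∑ v, ∏ i ∈ T, sgn (Q v i) := by
    intro T
    let q : V → ZMod 2 := fun v => ∑ i ∈ T, Q v i
    have hprod : ∀ v, ∏ i ∈ T, sgn (Q v i) = sgn (q v) := by
      intro v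
      show _ = sgn (∑ i ∈ T, Q v i)
      induction T using Finset.induction_on with
      | empty => simp [sgn]
      | @insert i T hi ih => rw [Finset.prod_insert hi, Finset.sum_insert hi, sgn_add, ih]
    simp only [hprod]
    have hq3 : ∀ u v w, q (u + v + w) + q (u + v) + q (u + w) + q (v + w) + q u + q v + q w = 0 :=
      fun u v w => by
        simp only [q, ← Finset.sum_add_distrib]
        exact Finset.sum_eq_zero fun i _ => congrFun (hB u v w) i
    let b : V → V →+ ZMod 2 := fun u => AddMonoidHom.mk' (fun v => q (v + u) + q v + q u)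
      fun v w => by
        have h := hq3 v w u
        linear_combination h - h2 (q (v + u)) - h2 (q v) - h2 (q (w + u)) - h2 (q w) - h2 (q u)
    have hdvd := card_dvd_sq_sum q b fun u v => by
      show _ = q v + q u + (q (v + u) + q v + q u)
      linear_combination - h2 (q v) - h2 (q u)
    rw [hd] at hdvd
    rw [← Int.dvd_natAbs, show ((2 : ℤ) ^ (n + 1)) = ((2 ^ (n + 1) : ℕ) : ℤ) by push_cast; rfl,
      Int.natCast_dvd_natCast]
    refine pow_succ_dvd_of_sq n _ ((pow_dvd_pow 2 (by omega : 2 * n + 1 ≤ d)).trans ?_)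
    rw [← Int.natAbs_mul]
    exact Int.natCast_dvd.1 hdvd
  have hsum : ∑ T ∈ (Finset.univ : Finset (Fin n)).powerset, ∑ v, ∏ i ∈ T, sgn (Q v i) = 2 ^ n := by
    rw [Finset.sum_comm]
    simp only [← Finset.prod_one_add]
    rw [Finset.sum_eq_single (0 : V)]
    · simp [(hQ 0).2 rfl, sgn]
    · intro v _ hv
      obtain ⟨i, hi⟩ : ∃ i, Q v i ≠ 0 := by
        by_contra hc
        push Not at hc
        exact hv ((hQ v).1 (funext hc))
      exact Finset.prod_eq_zero (Finset.mem_univ i) (by rw [show sgn (Q v i) = -1 from if_neg hi]; rfl)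
    · simp
  have := hsum ▸ Finset.dvd_sum fun T _ => key T
  have h' : (2 ^ (n + 1) : ℕ) ∣ 2 ^ n := by exact_mod_cast this
  have := Nat.le_of_dvd (pow_pos two_pos n) h'
  rw [pow_succ] at this
  have := pow_pos (two_pos : (0:ℕ) < 2) n
  omega

end CfsgLib.SuzukiTwo
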