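import Mathlib

/-! Two central extensions of an elementary abelian 2-group by a central subgroup are isomorphic as
soon as their squaring maps agree. -/

set_option autoImplicit false

open scoped commutatorElement

namespace CfsgLib.SuzukiTwo

variable {G₁ G₂ V Z : Type*} [Group G₁] [Group G₂] [Group V] [Group Z] [Finite G₁] [Finite G₂]

theorem commutatorElement_eq_sq_prod {G : Type*} [Group G] (a b : G) :
    ⁅a, b⁆ = (a * b) * (a * b) * (b⁻¹ * (a⁻¹ * a⁻¹) * b) * (b⁻¹ * b⁻¹) := by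
  rw [commutatorElement_def]; group

theorem mulEquiv_of_squares (π₁ : G₁ →* V) (π₂ : G₂ →* V) (hπ₁ : Function.Surjective π₁)
    (hπ₂ : Function.Surjective π₂) (ι₁ : Z →* G₁) (ι₂ : Z →* G₂) (hι₁ : Function.Injective ι₁)
    (hι₂ : Function.Injective ι₂) (hk₁ : π₁.ker = ι₁.range) (hk₂ : π₂.ker = ι₂.range)
    (hc₁ : ∀ z g, g * ι₁ z = ι₁ z * g) (hc₂ : ∀ z g, g * ι₂ z = ι₂ z * g)
    (hsq : ∀ g h, π₁ g = π₂ h → ∃ z, g * g = ι₁ z ∧ h * h = ι₂ z) :
    Nonempty (G₁ ≃* G₂) := by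
  classical
  let H : Subgroup (G₁ × G₂) :=
    MonoidHom.eqLocus (π₁.comp (MonoidHom.fst G₁ G₂)) (π₂.comp (MonoidHom.snd G₁ G₂))
  let D : Subgroup (G₁ × G₂) := (ι₁.prod ι₂).range
  have hDc : ∀ d ∈ D, ∀ p : G₁ × G₂, p * d = d * p := by
    rintro _ ⟨z, rfl⟩ p
    exact Prod.ext (hc₁ z p.1) (hc₂ z p.2)
  have hmemD : ∀ p ∈ H, p * p ∈ D := by
    intro p hp
    obtain ⟨z, h1, h2⟩ := hsq p.1 p.2 hp
    exact ⟨z, Prod.ext h1.symm h2.symm⟩
  have hcomm : ∀ p ∈ H, ∀ p' ∈ H, ⁅p, p'⁆ ∈ D := by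
    intro p hp p' hp'
    rw [commutatorElement_eq_sq_prod]
    refine D.mul_mem (D.mul_mem (hmemD _ (H.mul_mem hp hp')) ?_) (hmemD _ (H.inv_mem hp'))
    rw [hDc _ (hmemD _ (H.inv_mem hp)) p'⁻¹, inv_mul_cancel_right]
    exact hmemD _ (H.inv_mem hp)
  have hι : ∀ z, π₁ (ι₁ z) = 1 ∧ π₂ (ι₂ z) = 1 := fun z =>
    ⟨(show ι₁ z ∈ π₁.ker from hk₁ ▸ ⟨z, rfl⟩), (show ι₂ z ∈ π₂.ker from hk₂ ▸ ⟨z, rfl⟩)⟩
  let S : Set (Subgroup (G₁ × G₂)) := {R | R ≤ H ∧ D ≤ R ∧ ∀ p ∈ R, p.2 = 1 → p.1 = 1}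
  have hD : D ∈ S := by
    refine ⟨?_, le_rfl, ?_⟩
    · rintro _ ⟨z, rfl⟩
      exact (hι z).1.trans (hι z).2.symm
    · rintro _ ⟨z, rfl⟩ (h : ι₂ z = 1)
      show ι₁ z = 1
      rw [(map_eq_one_iff ι₂ hι₂).1 h, map_one]
  obtain ⟨R, ⟨hRH, hDR, hR⟩, hmax⟩ := (Set.toFinite S).exists_maximal ⟨D, hD⟩
  have huniq : ∀ p ∈ R, ∀ p' ∈ R, p.2 = p'.2 → p = p' := by
    intro p hp p' hp' h
    have h2 : (p⁻¹ * p').2 = 1 := by simp [h]
    have h1 := hR _ (R.mul_mem (R.inv_mem hp) hp') h2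
    exact Prod.ext (inv_mul_eq_one.1 (by simpa using h1)) h
  have hcover : ∀ h : G₂, ∃ p ∈ R, p.2 = h := by
    intro h
    by_contra hno
    push Not at hno
    obtain ⟨g, hg⟩ := hπ₁ (π₂ h)
    set q : G₁ × G₂ := (g, h) with hq
    have hqH : q ∈ H := hg
    have hqq : q * q ∈ R := hDR (hmemD q hqH)
    have hconj : ∀ r ∈ R, q * r * q⁻¹ ∈ R := by
      intro r hr
      have := R.mul_mem (hDR (hcomm q hqH r (hRH hr))) hr
      simpa [commutatorElement_def, mul_assoc] using this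
    have hconj' : ∀ r ∈ R, q⁻¹ * r * q ∈ R := by
      intro r hr
      have := R.mul_mem (hDR (hcomm q⁻¹ (H.inv_mem hqH) r (hRH hr))) hr
      simpa [commutatorElement_def, mul_assoc] using this
    let R' : Subgroup (G₁ × G₂) :=
      { carrier := {p | p ∈ R ∨ p * q ∈ R}
        one_mem' := Or.inl R.one_mem
        mul_mem' := fun {p p'} hp hp' => by
          rcases hp with hp | hp <;> rcases hp' with hp' | hp'
          · exact Or.inl (R.mul_mem hp hp')
          · exact Or.inr (by rw [mul_assoc]; exact R.mul_mem hp hp')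
          · refine Or.inr ?_
            have := R.mul_mem hp (hconj' p' hp')
            simpa [mul_assoc] using this
          · refine Or.inl ?_
            have := R.mul_mem (R.mul_mem hp (hconj' _ hp')) (R.inv_mem hqq)
            simpa [mul_assoc] using this
        inv_mem' := fun {p} hp => by
          rcases hp with hp | hp
          · exact Or.inl (R.inv_mem hp)
          · refine Or.inr ?_
            have := R.mul_mem (hconj _ (R.inv_mem hp)) hqq
            simpa [mul_assoc] using this }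
    have hle : R ≤ R' := fun p hp => Or.inl hp
    have hS : R' ∈ S := by
      refine ⟨?_, hDR.trans hle, ?_⟩
      · rintro p (hp | hp)
        · exact hRH hp
        · have := H.mul_mem (hRH hp) (H.inv_mem hqH)
          rwa [mul_inv_cancel_right] at this
      · rintro p (hp | hp) h2
        · exact hR p hp h2
        · exact absurd (show (p * q).2 = h by simp [hq, h2]) (hno _ hp)
    have hqR' : q⁻¹ ∈ R' := Or.inr (by rw [inv_mul_cancel]; exact R.one_mem)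
    have := hmax hS hle hqR'
    exact hno q (by simpa using R.inv_mem this) rfl
  choose p hp hpe using hcover
  let f : G₂ →* G₁ := MonoidHom.mk' (fun h => (p h).1) (fun h h' => by
    rw [← Prod.fst_mul]
    exact congrArg Prod.fst (huniq _ (hp _) _ (R.mul_mem (hp h) (hp h'))
      (by rw [Prod.snd_mul, hpe, hpe, hpe])))
  have hfι : ∀ z, f (ι₂ z) = ι₁ z := fun z =>
    congrArg Prod.fst (huniq _ (hp _) _ (hDR ⟨z, rfl⟩) (hpe _))
  have hfπ : ∀ h, π₁ (f h) = π₂ h := fun h => by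
    have h1 : π₁ (p h).1 = π₂ (p h).2 := hRH (hp h)
    rwa [hpe] at h1
  refine ⟨(MulEquiv.ofBijective f ⟨?_, ?_⟩).symm⟩
  · refine (injective_iff_map_eq_one f).2 fun h hh => ?_
    have h2 : h ∈ π₂.ker := by
      rw [MonoidHom.mem_ker, ← hfπ, hh, map_one]
    rw [hk₂] at h2
    obtain ⟨z, rfl⟩ := h2
    rw [hfι] at hh
    rw [(map_eq_one_iff ι₁ hι₁).1 hh, map_one]
  · intro g
    obtain ⟨h, hh⟩ := hπ₂ (π₁ g)
    have h1 : (f h)⁻¹ * g ∈ π₁.ker := by
      rw [MonoidHom.mem_ker, map_mul, map_inv, hfπ, hh, inv_mul_cancel]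
    rw [hk₁] at h1
    obtain ⟨z, hz⟩ := h1
    exact ⟨h * ι₂ z, by rw [map_mul, hfι, hz, mul_inv_cancel_left]⟩

end CfsgLib.SuzukiTwo
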