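import Mathlib

/-! Separation of the twisting characters `a ↦ a / σ a` of a finite field of characteristic two. -/

set_option autoImplicit false

open Polynomial

namespace CfsgLib.SuzukiTwo

theorem two_pow_pair {a b c d : ℕ} (h : 2 ^ a + 2 ^ b = 2 ^ c + 2 ^ d) :
    (a = c ∧ b = d) ∨ (a = d ∧ b = c) := by
  wlog hab : a ≤ b generalizing a b
  · rcases this (a := b) (b := a) (by omega) (by omega) with ⟨h1, h2⟩ | ⟨h1, h2⟩
    · exact Or.inr ⟨h2, h1⟩
    · exact Or.inl ⟨h2, h1⟩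
  wlog hcd : c ≤ d generalizing c d
  · rcases this (c := d) (d := c) (by omega) (by omega) with ⟨h1, h2⟩ | ⟨h1, h2⟩
    · exact Or.inr ⟨h1, h2⟩
    · exact Or.inl ⟨h1, h2⟩
  have hbd : b = d := by
    by_contra hne
    rcases lt_or_gt_of_ne hne with hl | hl
    · have h1 : 2 ^ a ≤ 2 ^ b := Nat.pow_le_pow_right two_pos hab
      have h2 : 2 ^ (b + 1) ≤ 2 ^ d := Nat.pow_le_pow_right two_pos hl
      have h3 := pow_pos (two_pos : (0:ℕ) < 2) c
      rw [pow_succ] at h2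
      omega
    · have h1 : 2 ^ c ≤ 2 ^ d := Nat.pow_le_pow_right two_pos hcd
      have h2 : 2 ^ (d + 1) ≤ 2 ^ b := Nat.pow_le_pow_right two_pos hl
      have h3 := pow_pos (two_pos : (0:ℕ) < 2) a
      rw [pow_succ] at h2
      omega
  subst hbd
  exact Or.inl ⟨Nat.pow_right_injective le_rfl (show 2 ^ a = 2 ^ c by omega), rfl⟩

variable {F : Type*} [Field F] [Fintype F] [CharP F 2]

/-- Every automorphism of a finite field of characteristic two is a power of the Frobenius. -/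
theorem exists_frobenius_index :
    ∃ n : ℕ, 0 < n ∧ Fintype.card F = 2 ^ n ∧
      ∀ σ : F ≃+* F, ∃ t, t < n ∧ ∀ x : F, σ x = x ^ 2 ^ t := by
  haveI : Fact (Nat.Prime 2) := ⟨Nat.prime_two⟩
  letI : Algebra (ZMod 2) F := ZMod.algebra F 2
  refine ⟨Module.finrank (ZMod 2) F, Module.finrank_pos, ?_, fun σ => ?_⟩
  · rw [Module.card_eq_pow_finrank (K := ZMod 2) (V := F), ZMod.card]
  let σ' : F ≃ₐ[ZMod 2] F := AlgEquiv.ofRingEquiv (f := σ) fun x =>
    RingHom.congr_fun (Subsingleton.elim ((σ : F →+* F).comp (algebraMap (ZMod 2) F))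
      (algebraMap (ZMod 2) F)) x
  obtain ⟨t, ht⟩ := (FiniteField.bijective_frobeniusAlgEquivOfAlgebraic_pow (ZMod 2) F).2 σ'
  refine ⟨t, t.2, fun x => ?_⟩
  have h : σ' x = x ^ 2 ^ (t : ℕ) := by
    rw [← ht, AlgEquiv.coe_pow, FiniteField.coe_frobeniusAlgEquivOfAlgebraic_iterate, ZMod.card]
  exact h

/-- The points `ρ (a / σ a)` are pairwise distinct when `a` generates the multiplicative group. -/
theorem twist_inj {a : F} (ha : a ≠ 0) (hgen : ∀ x : F, x ≠ 0 → ∃ m : ℕ, a ^ m = x)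
    {σ τ ρ : F ≃+* F} (hσ : σ ≠ 1) (hτ : τ ≠ 1) (h : ρ (a / σ a) = a / τ a) :
    ρ = 1 ∧ σ = τ := by
  classical
  obtain ⟨n, hn, hcard, hfr⟩ := exists_frobenius_index (F := F)
  obtain ⟨i, hi, hi'⟩ := hfr σ
  obtain ⟨j, hj, hj'⟩ := hfr τ
  obtain ⟨t, ht, ht'⟩ := hfr ρ
  obtain ⟨u, hu, hu'⟩ := hfr (ρ * σ)
  have hext : ∀ φ : F ≃+* F, ∀ k, (∀ x, φ x = x ^ 2 ^ k) → k = 0 → φ = 1 := fun φ k hk h0 =>
    RingEquiv.ext fun x => by rw [hk, h0, pow_zero, pow_one]; rfl
  have hord : orderOf a + 1 = 2 ^ n := by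
    let u : Fˣ := Units.mk0 a ha
    have htop : ∀ x : Fˣ, x ∈ Subgroup.zpowers u := fun x => by
      obtain ⟨m, hm⟩ := hgen x x.ne_zero
      exact ⟨m, Units.ext (by simpa [u] using hm)⟩
    have h1 : orderOf u = Nat.card Fˣ := orderOf_eq_card_of_forall_mem_zpowers htop
    rw [Nat.card_units, Nat.card_eq_fintype_card, hcard, ← orderOf_units, Units.val_mk0] at h1
    have := Nat.one_le_two_pow (n := n)
    omega
  have heq : a ^ (2 ^ t + 2 ^ j) = a ^ (2 ^ 0 + 2 ^ u) := by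
    rw [pow_add, pow_add, ← ht', ← hj', ← hu', pow_zero, pow_one]
    rw [map_div₀, div_eq_div_iff ((map_ne_zero ρ).2 ((map_ne_zero σ).2 ha)) ((map_ne_zero τ).2 ha)]
      at h
    exact h
  have hle : ∀ k, k < n → 2 * 2 ^ k ≤ 2 ^ n := fun k hk => by
    rw [← pow_succ']; exact Nat.pow_le_pow_right two_pos hk
  have hnat : 2 ^ t + 2 ^ j = 2 ^ 0 + 2 ^ u := by
    have hm := (pow_eq_pow_iff_modEq (x := Units.mk0 a ha) (m := 2 ^ 0 + 2 ^ u)
      (n := 2 ^ t + 2 ^ j)).1 (Units.ext (by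
        simpa only [Units.val_pow_eq_pow_val, Units.val_mk0] using heq))
    rw [← orderOf_units, Units.val_mk0] at hm
    have h1 := hle t ht
    have h2 := hle j hj
    have h3 := hle u hu
    have h4 := hle 0 hn
    have p1 := Nat.one_le_two_pow (n := t)
    have p2 := Nat.one_le_two_pow (n := j)
    have p3 := Nat.one_le_two_pow (n := u)
    rw [pow_zero] at h4 ⊢
    rw [pow_zero] at hm
    rcases le_total (2 ^ t + 2 ^ j) (1 + 2 ^ u) with hab | hab
    · exact hm.eq_of_abs_lt (by rw [abs_lt]; omega)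
    · exact hm.eq_of_abs_lt (by rw [abs_lt]; omega)
  rcases two_pow_pair hnat with ⟨h1, h2⟩ | ⟨h1, h2⟩
  · have hρ := hext ρ t ht' h1
    subst hρ
    refine ⟨rfl, RingEquiv.ext fun x => ?_⟩
    rw [hj', h2, ← hu', one_mul]
  · exact absurd (hext τ j hj' h2) hτ

/-- Interpolation: any target on the twists is realised by a sum of powers. -/
theorem exists_power_sum {a : F} (ha : a ≠ 0) (hgen : ∀ x : F, x ≠ 0 → ∃ m : ℕ, a ^ m = x)
    (r : (F ≃+* F) → F) :
    ∃ T : Finset ℕ, ∀ σ : F ≃+* F, σ ≠ 1 → ∑ m ∈ T, (a / σ a) ^ m = r σ := by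
  classical
  haveI : Fintype (F ≃+* F) := Fintype.ofInjective (fun σ => (σ : F → F)) DFunLike.coe_injective
  let v : {σ : F ≃+* F // σ ≠ 1} × (F ≃+* F) → F := fun p => p.2 (a / p.1.1 a)
  let w : {σ : F ≃+* F // σ ≠ 1} × (F ≃+* F) → F := fun p => p.2 (r p.1.1)
  have hv : Function.Injective v := by
    rintro ⟨⟨σ, hσ⟩, ρ⟩ ⟨⟨τ, hτ⟩, π⟩ h
    have h' : (π.symm * ρ : F ≃+* F) (a / σ a) = a / τ a := by
      show π.symm (ρ (a / σ a)) = _
      rw [show ρ (a / σ a) = π (a / τ a) from h, RingEquiv.symm_apply_apply]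
    obtain ⟨h1, h2⟩ := twist_inj ha hgen hσ hτ h'
    subst h2
    have : ρ = π := by
      ext x
      have := RingEquiv.congr_fun h1 x
      exact π.symm_apply_eq.1 this
    rw [this]
  set L := Lagrange.interpolate Finset.univ v w with hL
  have hdeg := Lagrange.degree_interpolate_lt (s := Finset.univ) w hv.injOn
  have hfix : ∀ φ : F ≃+* F, L.map (φ : F →+* F) = L := by
    intro φ
    refine Lagrange.eq_interpolate_of_eval_eq w hv.injOn (by rw [degree_map]; exact hdeg) ?_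
    rintro ⟨σ, ρ⟩ -
    have e : v (σ, ρ) = (φ : F →+* F) (v (σ, φ⁻¹ * ρ)) := by
      show ρ _ = φ (φ.symm (ρ _))
      rw [RingEquiv.apply_symm_apply]
    rw [e, eval_map_apply, hL, Lagrange.eval_interpolate_at_node w hv.injOn (Finset.mem_univ _)]
    show φ (φ.symm (ρ _)) = ρ _
    rw [RingEquiv.apply_symm_apply]
  haveI : Fact (Nat.Prime 2) := ⟨Nat.prime_two⟩
  have hcoef : ∀ m, L.coeff m ≠ 0 → L.coeff m = 1 := by
    intro m hm
    have h := congrArg (fun q => Polynomial.coeff q m) (hfix (frobeniusEquiv F 2))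
    simp only [coeff_map] at h
    have h2 : L.coeff m ^ 2 = L.coeff m := h
    rw [sq] at h2
    exact mul_right_cancel₀ hm (h2.trans (one_mul _).symm)
  refine ⟨L.support, fun σ hσ => ?_⟩
  have h : L.eval (v (⟨σ, hσ⟩, 1)) = w (⟨σ, hσ⟩, 1) :=
    Lagrange.eval_interpolate_at_node w hv.injOn (Finset.mem_univ _)
  rw [eval_eq_sum, Polynomial.sum_def] at h
  refine Eq.trans (Finset.sum_congr rfl fun m hm => ?_) h
  rw [hcoef m (Polynomial.mem_support_iff.1 hm), one_mul]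
  rfl

end CfsgLib.SuzukiTwo
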