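import Mathlib
import Cfsg.Agent.Lib.SuzukiTwo.Separation
import Cfsg.Agent.Lib.SuzukiTwo.AdditiveMaps

/-! Equivariant families of additive maps split into twisted monomials; the induced pairing
vanishes. -/

set_option autoImplicit false

namespace CfsgLib.SuzukiTwo

variable {P : Type*} [Group P] {F : Type*} [Field F] [Fintype F] [CharP F 2]

theorem coeff_unique [Fintype (F ≃+* F)] {c₁ c₂ : (F ≃+* F) → F}
    (h : ∀ t, ∑ σ, c₁ σ * σ t = ∑ σ, c₂ σ * σ t) : c₁ = c₂ := by
  have h0 : ∑ σ : F ≃+* F, (c₁ σ - c₂ σ) • ((σ : F →+* F) : F → F) = 0 := by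
    funext t
    simp only [Finset.sum_apply, Pi.smul_apply, smul_eq_mul, Pi.zero_apply, sub_mul,
      Finset.sum_sub_distrib]
    exact sub_eq_zero.2 (h t)
  funext σ
  exact sub_eq_zero.1
    (Fintype.linearIndependent_iff.1 (linearIndependent_autos (F := F)) _ h0 σ)

variable (D : P → F →+ F) (hDmul : ∀ g h, D (g * h) = D g + D h)
  (k : P → P) {a : F} (ha : a ≠ 0) (hgen : ∀ x : F, x ≠ 0 → ∃ m : ℕ, a ^ m = x)
  (hDk : ∀ g t, D (k g) (a * t) = a * D g t) (hfix : ∀ g, D (k g) = D g → D g = 0)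

include hDmul

theorem twist_one : D 1 = 0 := by
  have h := hDmul 1 1
  rw [mul_one] at h
  exact add_eq_left.1 h.symm

include ha hgen hDk hfix

/-- The decomposition into monomials. -/
theorem twist_decomp [Fintype (F ≃+* F)] :
    ∃ c : P → (F ≃+* F) → F, (∀ g t, D g t = ∑ σ, c g σ * σ t) ∧ (∀ g, c g 1 = 0) ∧
      ∀ g (r : (F ≃+* F) → F), ∃ y, c y = fun σ => r σ * c g σ := by
  classical
  choose c hc using fun g => exists_autos_of_additive (D g)
  have hcm : ∀ g h, c (g * h) = c g + c h := fun g h => coeff_unique fun t => by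
    simp only [Pi.add_apply, add_mul, Finset.sum_add_distrib, ← hc, hDmul]; rfl
  have hc0 : c 1 = 0 := coeff_unique fun t => by
    rw [← hc, twist_one D hDmul]; simp
  have hck : ∀ g σ, c (k g) σ = (a / σ a) * c g σ := by
    intro g
    refine congrFun (coeff_unique (c₂ := fun σ => (a / σ a) * c g σ) fun t => ?_)
    have h := hDk g (t / a)
    rw [mul_div_cancel₀ _ ha, hc, hc, Finset.mul_sum] at h
    rw [h]
    refine Finset.sum_congr rfl fun σ _ => ?_
    rw [map_div₀]
    ring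
  have hit : ∀ (m : ℕ) g σ, c (k^[m] g) σ = (a / σ a) ^ m * c g σ := by
    intro m
    induction m with
    | zero => intro g σ; simp
    | succ m ih =>
      intro g σ
      rw [Function.iterate_succ', Function.comp_apply, hck, ih, pow_succ]
      ring
  have hsum : ∀ (g : P) (T : Finset ℕ), ∃ y, ∀ σ, c y σ = (∑ m ∈ T, (a / σ a) ^ m) * c g σ := by
    intro g T
    induction T using Finset.induction_on with
    | empty => exact ⟨1, fun σ => by rw [hc0]; simp⟩
    | @insert m T hm ih =>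
      obtain ⟨y, hy⟩ := ih
      exact ⟨k^[m] g * y, fun σ => by
        rw [hcm, Pi.add_apply, hit, hy, Finset.sum_insert hm, add_mul]⟩
  have hc1 : ∀ g, c g 1 = 0 := by
    intro g
    obtain ⟨n, hn, hcard, -⟩ := exists_frobenius_index (F := F)
    set N := Fintype.card F - 1
    obtain ⟨y, hy⟩ := hsum g (Finset.range N)
    have hky : c (k y) = c y := by
      funext σ
      rw [hck, hy, ← mul_assoc, Finset.mul_sum]
      congr 1
      have hb : (a / σ a) ^ N = 1 :=
        FiniteField.pow_card_sub_one_eq_one _ (div_ne_zero ha ((map_ne_zero σ).2 ha))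
      have h1 := Finset.sum_range_succ' (fun m => (a / σ a) ^ m) N
      rw [Finset.sum_range_succ, hb, pow_zero] at h1
      simp only [← pow_succ']
      exact (add_right_cancel h1).symm
    have h0 : D y = 0 := hfix y (AddMonoidHom.ext fun t => by rw [hc, hc, hky])
    have hcy : c y = 0 := coeff_unique fun t => by rw [← hc, h0]; simp
    have h := hy 1
    rw [hcy, show (1 : F ≃+* F) a = a from rfl, div_self ha] at h
    simp only [Pi.zero_apply, one_pow, Finset.sum_const, Finset.card_range, nsmul_eq_mul, mul_one] at h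
    rwa [CharTwo.natCast_eq_ite, if_neg, one_mul, eq_comm] at h
    rw [Nat.even_iff, show N = 2 ^ n - 1 by rw [← hcard]]
    obtain ⟨n', rfl⟩ : ∃ n', n = n' + 1 := ⟨n - 1, by omega⟩
    have := Nat.one_le_two_pow (n := n')
    rw [pow_succ]
    omega
  refine ⟨c, hc, hc1, fun g r => ?_⟩
  obtain ⟨T, hT⟩ := exists_power_sum ha hgen r
  obtain ⟨y, hy⟩ := hsum g T
  refine ⟨y, funext fun σ => ?_⟩
  rw [hy]
  by_cases hσ : σ = 1
  · rw [hσ, hc1, mul_zero, mul_zero]
  · rw [hT σ hσ]

variable (γ : P → P → F) (q : P → F) (hγl : ∀ g h u, γ (g * h) u = γ g u + γ h u)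
  (hγs : ∀ g h, γ g h = γ h g) (hγ0 : ∀ g, D g = 0 → ∀ h, γ g h = 0)
  (hq0 : ∀ g, D g = 0 → q g = 0) (hR1 : ∀ g, D g (q g) = 0)
  (hR2 : ∀ g h, D h (q g) = D g (γ h g) + γ h g)

include hγl hγs hγ0 hq0 hR1 hR2

theorem twist_pairing_eq_zero (g₀ h₀ : P) : γ g₀ h₀ = 0 := by
  classical
  haveI : Fintype (F ≃+* F) := Fintype.ofInjective (fun σ => (σ : F → F)) DFunLike.coe_injective
  obtain ⟨c, hc, hc1, hcomb⟩ := twist_decomp D hDmul k ha hgen hDk hfix
  have hD0 : ∀ g, (∀ σ, c g σ = 0) → D g = 0 := fun g h => AddMonoidHom.ext fun t => by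
    rw [hc]; simp [h]
  have hcongr : ∀ g g' u, D g = D g' → γ g u = γ g' u := fun g g' u h => by
    have h1 := hDmul g (g⁻¹ * g')
    rw [mul_inv_cancel_left, ← h] at h1
    have h2 := hγl g (g⁻¹ * g') u
    rw [mul_inv_cancel_left, hγ0 _ (add_eq_left.1 h1.symm), add_zero] at h2
    exact h2.symm
  have mono : ∀ g σ (e : F), c g σ ≠ 0 → ∃ u, ∀ t, D u t = e * σ t := fun g σ e hne => by
    obtain ⟨u, hu⟩ := hcomb g (fun τ => if τ = σ then e / c g σ else 0)
    refine ⟨u, fun t => ?_⟩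
    rw [hc, hu, Finset.sum_eq_single σ (fun τ _ h => by simp [h]) (by simp)]
    simp [div_mul_cancel₀ e hne]
  -- monomials pair trivially
  have hmono : ∀ (m n : P) (σ τ : F ≃+* F), σ ≠ 1 → τ ≠ 1 → ∀ c₀ d : F, (∀ t, D m t = c₀ * σ t) →
      (∀ t, D n t = d * τ t) → γ n m = 0 := by
    intro m n σ τ hσ hτ c₀ d hmD hnD
    by_cases hc0 : c₀ = 0
    · rw [hγs]; exact hγ0 m (AddMonoidHom.ext fun t => by rw [hmD, hc0, zero_mul]; rfl) n
    by_cases hd0 : d = 0
    · exact hγ0 n (AddMonoidHom.ext fun t => by rw [hnD, hd0, zero_mul]; rfl) m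
    have hqm : q m = 0 := by
      have h := hR1 m
      rw [hmD] at h
      exact (map_eq_zero σ).1 ((mul_eq_zero.1 h).resolve_left hc0)
    have hcn : c n τ = d := by
      have : c n = fun ρ => if ρ = τ then d else 0 := coeff_unique fun t => by
        rw [← hc, hnD]; simp [ite_mul]
      rw [this]; simp
    choose u hu using fun e => mono n τ e (by rw [hcn]; exact hd0)
    let φ : F → F := fun e => γ (u e) m
    have hφadd : ∀ e e', φ (e + e') = φ e + φ e' := fun e e' => by
      rw [show φ e + φ e' = γ (u e * u e') m from (hγl _ _ _).symm]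
      exact hcongr _ _ _ (AddMonoidHom.ext fun t => by
        rw [hDmul, AddMonoidHom.add_apply, hu, hu, hu, add_mul])
    have hqu : ∀ e, q (u e) = 0 := fun e => by
      by_cases he : e = 0
      · exact hq0 _ (AddMonoidHom.ext fun t => by rw [hu, he, zero_mul]; rfl)
      have h := hR1 (u e)
      rw [hu] at h
      exact (map_eq_zero τ).1 ((mul_eq_zero.1 h).resolve_left he)
    have hfix1 : ∀ e, c₀ * σ (φ e) = φ e := fun e => by
      have h := hR2 m (u e)
      rw [hqm, map_zero, hmD] at h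
      exact CharTwo.add_eq_zero.1 h.symm
    have hfix2 : ∀ e, e * τ (φ e) = φ e := fun e => by
      have h := hR2 (u e) m
      rw [hqu, map_zero, hu, hγs m] at h
      exact CharTwo.add_eq_zero.1 h.symm
    by_contra hne0
    have hφd : φ d ≠ 0 := fun h => hne0 (by
      rw [← h]
      exact hcongr _ _ _ (AddMonoidHom.ext fun t => by rw [hu, hnD]))
    have huq : ∀ e e', φ e = φ e' → φ e ≠ 0 → e = e' := fun e e' h h0 => by
      have h1 := hfix2 e
      have h1' := hfix2 e'
      rw [← h] at h1'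
      exact mul_right_cancel₀ ((map_ne_zero τ).2 h0) (h1.trans h1'.symm)
    have hker : ∀ e, φ e = 0 → e = 0 := fun e he =>
      (add_eq_left.1 (huq d (d + e) (by rw [hφadd, he, add_zero]) hφd).symm)
    have hinj : Function.Injective φ := fun e e' h => by
      refine CharTwo.add_eq_zero.1 (hker _ ?_)
      rw [hφadd, h, CharTwo.add_self_eq_zero]
    have hall : ∀ x, c₀ * σ x = x := fun x => by
      obtain ⟨e, rfl⟩ := (Finite.injective_iff_surjective.1 hinj) x
      exact hfix1 e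
    have hc01 : c₀ = 1 := by simpa using hall 1
    exact hσ (RingEquiv.ext fun x => by simpa [hc01] using hall x)
  -- every element is a product of monomials
  have hgenM : ∀ g, ∀ T : Finset (F ≃+* F), ∃ y, (∀ t, D y t = ∑ σ ∈ T, c g σ * σ t) ∧
      ∀ (m : P) (σ : F ≃+* F) (c₀ : F), σ ≠ 1 → (∀ t, D m t = c₀ * σ t) → γ y m = 0 := by
    intro g T
    induction T using Finset.induction_on with
    | empty =>
      exact ⟨1, fun t => by rw [twist_one D hDmul]; simp, fun m _ _ _ _ => hγ0 _ (twist_one D hDmul) m⟩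
    | @insert τ T hτ ih =>
      obtain ⟨y, hyD, hy⟩ := ih
      by_cases h0 : c g τ = 0
      · exact ⟨y, fun t => by rw [hyD, Finset.sum_insert hτ, h0, zero_mul, zero_add], hy⟩
      have hτ1 : τ ≠ 1 := fun h => h0 (by rw [h, hc1])
      obtain ⟨u, hu⟩ := mono g τ (c g τ) h0
      refine ⟨u * y, fun t => by rw [hDmul, AddMonoidHom.add_apply, hu, hyD, Finset.sum_insert hτ],
        fun m σ c₀ hσ hm => ?_⟩
      rw [hγl, hy m σ c₀ hσ hm, add_zero]
      exact hmono m u σ τ hσ hτ1 c₀ _ hm hu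
  have hgM : ∀ (g m : P) (σ : F ≃+* F) (c₀ : F), σ ≠ 1 → (∀ t, D m t = c₀ * σ t) → γ g m = 0 := fun g m σ c₀ hσ hm => by
    obtain ⟨y, hyD, hy⟩ := hgenM g Finset.univ
    rw [← hy m σ c₀ hσ hm]
    exact hcongr _ _ _ (AddMonoidHom.ext fun t => by rw [hyD, hc])
  have : ∀ T : Finset (F ≃+* F), ∃ y, (∀ t, D y t = ∑ σ ∈ T, c h₀ σ * σ t) ∧ γ y g₀ = 0 := by
    intro T
    induction T using Finset.induction_on with
    | empty => exact ⟨1, fun t => by rw [twist_one D hDmul]; simp, hγ0 _ (twist_one D hDmul) g₀⟩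
    | @insert τ T hτ ih =>
      obtain ⟨y, hyD, hy⟩ := ih
      by_cases h0 : c h₀ τ = 0
      · exact ⟨y, fun t => by rw [hyD, Finset.sum_insert hτ, h0, zero_mul, zero_add], hy⟩
      have hτ1 : τ ≠ 1 := fun h => h0 (by rw [h, hc1])
      obtain ⟨u, hu⟩ := mono h₀ τ (c h₀ τ) h0
      refine ⟨u * y, fun t => by rw [hDmul, AddMonoidHom.add_apply, hu, hyD, Finset.sum_insert hτ], ?_⟩
      rw [hγl, hy, add_zero, hγs]
      exact hgM g₀ u τ _ hτ1 hu
  obtain ⟨y, hyD, hy⟩ := this Finset.univ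
  rw [hγs, ← hy]
  exact hcongr _ _ _ (AddMonoidHom.ext fun t => by rw [hyD, hc])

end CfsgLib.SuzukiTwo
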