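import Mathlib
import Cfsg.Prelude.Def_LieRecognition
import Cfsg.Agent.Lib.SuzukiTwo.AdditiveMaps
import Cfsg.Agent.Lib.SuzukiTwo.Center
import Cfsg.Agent.Lib.SuzukiTwo.ExtensionEquiv

/-! A Suzuki 2-group of order `q ^ 2` is of type A. -/

set_option autoImplicit false

open scoped commutatorElement

namespace CfsgLib.SuzukiTwo

section matrices

variable {F : Type*} [Field F] (φ : F ≃+* F)

/-- The matrix with rows `(1,0,0)`, `(x,1,0)`, `(y, φ x, 1)`. -/
def typeAMat (x y : F) : Matrix (Fin 3) (Fin 3) F := !![1, 0, 0; x, 1, 0; y, φ x, 1]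

theorem typeAMat_mul (x y x' y' : F) :
    typeAMat φ x y * typeAMat φ x' y' = typeAMat φ (x + x') (y + φ x * x' + y') := by
  ext i j
  fin_cases i <;> fin_cases j <;> simp [typeAMat, Matrix.mul_apply, Fin.sum_univ_three, add_assoc]

theorem typeAMat_zero : typeAMat φ 0 0 = 1 := by
  ext i j
  fin_cases i <;> fin_cases j <;> simp [typeAMat]

theorem typeAMat_inj {x y x' y' : F} (h : typeAMat φ x y = typeAMat φ x' y') : x = x' ∧ y = y' :=
  ⟨by simpa [typeAMat] using congrFun (congrFun h 1) 0,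
    by simpa [typeAMat] using congrFun (congrFun h 2) 0⟩

/-- The element of `GL₃` with matrix `typeAMat φ x y`. -/
def typeAElt (x y : F) : GL (Fin 3) F where
  val := typeAMat φ x y
  inv := typeAMat φ (-x) (-y - φ x * (-x))
  val_inv := by
    rw [typeAMat_mul, ← typeAMat_zero φ]
    congr 1 <;> ring
  inv_val := by
    rw [typeAMat_mul, ← typeAMat_zero φ]
    congr 1
    · ring
    · rw [map_neg]; ring

theorem typeAElt_mul (x y x' y' : F) :
    typeAElt φ x y * typeAElt φ x' y' = typeAElt φ (x + x') (y + φ x * x' + y') :=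
  Units.ext (typeAMat_mul φ x y x' y')

theorem typeAElt_zero : typeAElt φ (0 : F) 0 = 1 := Units.ext (typeAMat_zero φ)

theorem mem_suzukiTypeA {g : GL (Fin 3) F} :
    g ∈ Cfsg.suzukiTypeA F (φ : F →+* F) ↔ ∃ x y, g = typeAElt φ x y := by
  constructor
  · intro hg
    induction hg using Subgroup.closure_induction with
    | mem g hg =>
      obtain ⟨x, y, h⟩ := hg
      exact ⟨x, y, Units.ext h⟩
    | one => exact ⟨0, 0, (typeAElt_zero φ).symm⟩
    | mul g g' _ _ hg hg' =>
      obtain ⟨x, y, rfl⟩ := hg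
      obtain ⟨x', y', rfl⟩ := hg'
      exact ⟨_, _, typeAElt_mul φ x y x' y'⟩
    | inv g _ hg =>
      obtain ⟨x, y, rfl⟩ := hg
      exact ⟨-x, -y - φ x * (-x), Units.ext rfl⟩
  · rintro ⟨x, y, rfl⟩
    exact Subgroup.subset_closure ⟨x, y, rfl⟩

end matrices

theorem exists_pair_of_multiplicative {F : Type*} [Field F] [Fintype F] [CharP F 2] (r : F →* F)
    (hq : ∀ x y z : F, r (x + y + z) + r (x + y) + r (x + z) + r (y + z) + r x + r y + r z = 0) :
    ∃ σ τ : F ≃+* F, ∀ x, r x = σ x * τ x := by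
  classical
  haveI : Fintype (F ≃+* F) := Fintype.ofInjective (fun σ => (σ : F → F)) DFunLike.coe_injective
  obtain ⟨c, hc⟩ := exists_autos_of_quadratic r hq
  let m : (F ≃+* F) × (F ≃+* F) → (F →* F) := fun p =>
    ((p.1 : F →+* F) : F →* F) * ((p.2 : F →+* F) : F →* F)
  by_contra h
  push Not at h
  have hmem : r ∉ Set.range m := by
    rintro ⟨p, hp⟩
    obtain ⟨x, hx⟩ := h p.1 p.2
    exact hx (by rw [← hp]; rfl)
  refine (linearIndependent_monoidHom F F).notMem_span_image hmem ?_
  have he : (r : F → F) = ∑ p, c p • (m p : F → F) := by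
    funext x
    simp [hc, Finset.sum_apply, m]
  rw [he]
  exact Submodule.sum_mem _ fun p _ => Submodule.smul_mem _ _
    (Submodule.subset_span ⟨m p, ⟨p, rfl⟩, rfl⟩)

theorem odd_order_of_injective {F : Type*} [Field F] [Fintype F] [CharP F 2] (φ : F ≃+* F)
    (hinj : ∀ x : F, x * φ x = 1 → x = 1) : Odd (orderOf φ) := by
  classical
  haveI : Fintype (F ≃+* F) := Fintype.ofInjective (fun σ => (σ : F → F)) DFunLike.coe_injective
  by_contra hodd
  obtain ⟨k, hk⟩ := Nat.not_odd_iff_even.1 hodd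
  have hpos := orderOf_pos φ
  -- some sum over the full cycle is nonzero
  have hz : ∃ z : F, ∑ j ∈ Finset.range (orderOf φ), (φ ^ j) z ≠ 0 := by
    by_contra h
    push Not at h
    have hli := (linearIndependent_autos (F := F)).comp (fun j : Fin (orderOf φ) => φ ^ (j : ℕ))
      (fun i j hij => Fin.ext (pow_injOn_Iio_orderOf i.2 j.2 hij))
    have h0 := Fintype.linearIndependent_iff.1 hli (fun _ => 1) (by
      funext z
      simp only [Finset.sum_apply, Pi.smul_apply, Function.comp_apply, one_smul, Pi.zero_apply]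
      rw [Fin.sum_univ_eq_sum_range (fun j => ((φ ^ j : F ≃+* F) : F →+* F) z)]
      exact h z) ⟨0, hpos⟩
    exact one_ne_zero h0
  obtain ⟨z, hz⟩ := hz
  set y := ∑ i ∈ Finset.range k, (φ ^ (2 * i)) z with hy
  have hyy : φ y + y = ∑ j ∈ Finset.range (orderOf φ), (φ ^ j) z := by
    rw [hk, hy, map_sum, ← Finset.sum_add_distrib]
    clear hk hy hinj hpos hz y
    induction k with
    | zero => simp
    | succ k ih =>
      rw [Finset.sum_range_succ, ih, show k + 1 + (k + 1) = k + k + 1 + 1 by omega,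
        Finset.sum_range_succ _ (k + k + 1), Finset.sum_range_succ _ (k + k)]
      have h2k : 2 * k = k + k := two_mul k
      rw [h2k, show φ ((φ ^ (k + k)) z) = (φ ^ (k + k + 1)) z by rw [pow_succ' φ (k + k)]; rfl]
      ring
  have hfix : φ (φ y) = y := by
    obtain ⟨k', rfl⟩ : ∃ k', k = k' + 1 := ⟨k - 1, by omega⟩
    rw [hy, map_sum, map_sum]
    simp only [show ∀ i : ℕ, φ (φ ((φ ^ (2 * i)) z)) = (φ ^ (2 * (i + 1))) z from fun i => by
      rw [show 2 * (i + 1) = 2 * i + 1 + 1 by omega, pow_succ' φ (2 * i + 1), pow_succ' φ (2 * i)]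
      rfl]
    rw [Finset.sum_range_succ, Finset.sum_range_succ' (fun i => (φ ^ (2 * i)) z)]
    congr 1
    rw [show 2 * (k' + 1) = k' + 1 + (k' + 1) by omega, ← hk, pow_orderOf_eq_one]
    simp
  have hne : φ y ≠ y := fun h => hz (by rw [← hyy, h, CharTwo.add_self_eq_zero])
  have hy0 : y ≠ 0 := fun h => hne (by rw [h, map_zero])
  have hφy : φ y ≠ 0 := fun h => hy0 (φ.injective (h.trans (map_zero φ).symm))
  have := hinj (φ y / y) (by rw [map_div₀, hfix]; field_simp)
  exact hne ((div_eq_one_iff_eq hy0).1 this)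


theorem exists_field_regular {E : Type*} [Group E] [Finite E] (hE : ∀ x : E, x * x = 1)
    {K : Type*} [Group K] (ι : K →* MulAut E) (hcomm : ∀ (k l : K) (x : E), ι k (ι l x) = ι l (ι k x))
    {e : E} (he : e ≠ 1) (htrans : ∀ x : E, x ≠ 1 → ∃ k : K, ι k e = x) :
    ∃ (F : Type) (_ : Field F) (_ : Fintype F) (ψ : Multiplicative F ≃* E),
      CharP F 2 ∧ Fintype.card F = Nat.card E ∧ ψ (Multiplicative.ofAdd (1 : F)) = e ∧
        ∀ k : K, ∃ a : F, a ≠ 0 ∧
          ∀ x : F, ι k (ψ (Multiplicative.ofAdd x)) = ψ (Multiplicative.ofAdd (a * x)) := by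
  letI : CommGroup E := { (inferInstance : Group E) with
    mul_comm := fun x y => by
      calc x * y = x⁻¹ * y⁻¹ := by
            rw [inv_eq_of_mul_eq_one_right (hE x), inv_eq_of_mul_eq_one_right (hE y)]
        _ = (y * x)⁻¹ := by rw [mul_inv_rev]
        _ = y * x := inv_eq_of_mul_eq_one_right (hE _) }
  obtain ⟨F, _, _, ψ, hψ1, hψ⟩ := exists_field_structure ι hcomm he htrans
  have h2 : (2 : F) = 0 := by
    have := ψ.injective (a₁ := Multiplicative.ofAdd ((1 : F) + 1)) (a₂ := 1)
      (by rw [ofAdd_add, map_mul, hE, map_one])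
    rw [← one_add_one_eq_two]; exact this
  haveI : CharP F 2 := CharTwo.of_one_ne_zero_of_two_eq_zero one_ne_zero h2
  obtain ⟨n, hp, hn⟩ := FiniteField.card F 2
  letI : Fintype (GaloisField 2 n) := Fintype.ofFinite _
  have hcard : Fintype.card (GaloisField 2 n) = Fintype.card F := by
    rw [← Nat.card_eq_fintype_card, GaloisField.card 2 n n.ne_zero, hn]
  let i := FiniteField.ringEquivOfCardEq hcard
  refine ⟨GaloisField 2 n, inferInstance, inferInstance,
    (AddEquiv.toMultiplicative i.toAddEquiv).trans ψ, inferInstance, ?_, ?_, fun k => ?_⟩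
  · rw [hcard, ← Nat.card_eq_fintype_card]
    exact Nat.card_congr (Multiplicative.ofAdd.trans ψ.toEquiv)
  · show ψ (Multiplicative.ofAdd (i 1)) = e
    rw [map_one i, hψ1]
  · obtain ⟨a, ha, h⟩ := hψ k
    refine ⟨i.symm a, by simpa using ha, fun x => ?_⟩
    show ι k (ψ (Multiplicative.ofAdd (i x))) = ψ (Multiplicative.ofAdd (i (i.symm a * x)))
    rw [h, map_mul i, RingEquiv.apply_symm_apply]

variable {P : Type*} [Group P] {K : Subgroup (MulAut P)}

theorem kInv_omegaCenter : KInv K (omegaCenter P) := fun k hk x hx =>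
  (omegaAct K ⟨k, hk⟩ ⟨x, hx⟩).2

theorem card_K (hR : RegularInv K) : Nat.card K + 1 = Nat.card (omegaCenter P) := by
  classical
  haveI := hR.fin
  obtain ⟨e, he, he1⟩ := exists_omega_ne_one hR
  haveI := Fintype.ofFinite (omegaCenter P)
  have h : Nat.card K = Nat.card {x : omegaCenter P // x ≠ 1} := by
    refine Nat.card_eq_of_bijective
      (fun k => ⟨omegaAct K k ⟨e, he⟩, fun h => he1 (by
        simpa using congrArg Subtype.val ((omegaAct K k).injective (h.trans (map_one _).symm)))⟩)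
      ⟨fun k l h => ?_, fun x => ?_⟩
    · have h' : (k : MulAut P) e = (l : MulAut P) e := congrArg Subtype.val (congrArg Subtype.val h)
      refine (hR.reg e ((l : MulAut P) e) he1 he.2 ?_ ?_).unique h' rfl
      · exact fun h0 => he1 ((l : MulAut P).injective (h0.trans (map_one _).symm))
      · rw [← map_mul, he.2, map_one]
    · obtain ⟨k, hk, -⟩ := hR.reg e x.1 he1 he.2 (fun h => x.2 (Subtype.ext h)) x.1.2.2
      exact ⟨k, Subtype.ext (Subtype.ext hk)⟩
  rw [h, Nat.card_eq_fintype_card, Fintype.card_subtype_compl, Fintype.card_subtype_eq,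
    Nat.card_eq_fintype_card]
  have := Fintype.card_pos_iff.2 ⟨(1 : omegaCenter P)⟩
  omega

theorem exists_typeA (hR : RegularInv K) (hna : ∃ x y : P, x * y ≠ y * x)
    (hcard : Nat.card P = Nat.card (Subgroup.center P) ^ 2) :
    ∃ (F : Type) (_ : Field F) (_ : Fintype F) (φ : F ≃+* F),
      Fintype.card F = Nat.card (Subgroup.center P) ∧
        φ ≠ RingEquiv.refl F ∧ Odd (orderOf φ) ∧
          Nonempty (P ≃* Cfsg.suzukiTypeA F (φ : F →+* F)) := by
  classical
  haveI := hR.fin
  set W := omegaCenter P with hW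
  have hZW : Subgroup.center P = W :=
    le_antisymm (fun z hz => ⟨hz, center_sq_eq_one hR hna hz⟩) (fun z hz => hz.1)
  rw [hZW] at hcard ⊢
  haveI hWn : W.Normal := hZW ▸ inferInstance
  obtain ⟨e₀, he₀, he₀1⟩ := exists_omega_ne_one hR
  have hWcard : 2 ≤ Nat.card W := by
    rw [Nat.succ_le_iff, Finite.one_lt_card_iff_nontrivial]
    exact ⟨⟨⟨e₀, he₀⟩, 1, fun h => he₀1 (congrArg Subtype.val h)⟩⟩
  have hVcard : Nat.card (P ⧸ W) = Nat.card W := by
    have := Subgroup.card_eq_card_quotient_mul_card_subgroup W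
    rw [hcard, sq] at this
    exact (Nat.eq_of_mul_eq_mul_right (by omega) this).symm
  have hle : ∀ k : K, W ≤ W.comap (k : MulAut P).toMonoidHom := fun k x hx =>
    kInv_omegaCenter _ k.2 x hx
  let act : K → P ⧸ W →* P ⧸ W := fun k => QuotientGroup.map W W (k : MulAut P).toMonoidHom (hle k)
  have hact : ∀ (k : K) (g : P), act k (QuotientGroup.mk g) = QuotientGroup.mk ((k : MulAut P) g) :=
    fun k g => rfl
  let ι : K →* MulAut (P ⧸ W) :=
    { toFun := fun k =>
        { toFun := act k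
          invFun := act k⁻¹
          left_inv := fun v => by
            induction v using QuotientGroup.induction_on with
            | _ g => exact congrArg _ ((k : MulAut P).symm_apply_apply g)
          right_inv := fun v => by
            induction v using QuotientGroup.induction_on with
            | _ g => exact congrArg _ ((k : MulAut P).apply_symm_apply g)
          map_mul' := map_mul (act k) }
      map_one' := MulEquiv.ext fun v => by
        induction v using QuotientGroup.induction_on with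
        | _ g => rfl
      map_mul' := fun k l => MulEquiv.ext fun v => by
        induction v using QuotientGroup.induction_on with
        | _ g => rfl }
  -- no nontrivial element of `K` fixes a nontrivial coset
  have hfree : ∀ k : K, k ≠ 1 → ∀ v : P ⧸ W, ι k v = v → v = 1 := by
    intro k hk v hv
    induction v using QuotientGroup.induction_on with
    | _ g =>
      have hk1 : (k : MulAut P) ≠ 1 := fun h => hk (Subtype.ext h)
      have hmem : g⁻¹ * (k : MulAut P) g ∈ W := (QuotientGroup.eq).1 hv.symm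
      let φ : W → W := fun x => ⟨(x : P) * ((k : MulAut P) x)⁻¹,
        W.mul_mem x.2 (W.inv_mem (kInv_omegaCenter _ k.2 x x.2))⟩
      have hinj : Function.Injective φ := by
        intro x x' he
        have he' : (x : P) * ((k : MulAut P) x)⁻¹ = x' * ((k : MulAut P) x')⁻¹ :=
          congrArg Subtype.val he
        have hfix : (k : MulAut P) ((x' : P)⁻¹ * x) = (x' : P)⁻¹ * x := by
          rw [map_mul, map_inv]
          calc ((k : MulAut P) x')⁻¹ * (k : MulAut P) x
              = (x' : P)⁻¹ * ((x' : P) * ((k : MulAut P) x')⁻¹) * (k : MulAut P) x := by group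
            _ = (x' : P)⁻¹ * x := by rw [← he']; group
        exact Subtype.ext (inv_mul_eq_one.1 (fixedPointFree hR k.2 hk1 hfix)).symm
      obtain ⟨⟨x, hx⟩, hxe⟩ := (Finite.injective_iff_surjective.1 hinj) ⟨_, hmem⟩
      have hxe' : x * ((k : MulAut P) x)⁻¹ = g⁻¹ * (k : MulAut P) g := congrArg Subtype.val hxe
      have hfix : (k : MulAut P) (g * x) = g * x := by
        rw [map_mul]
        calc (k : MulAut P) g * (k : MulAut P) x
            = g * (g⁻¹ * (k : MulAut P) g) * (k : MulAut P) x := by group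
          _ = g * x := by rw [← hxe']; group
      refine (QuotientGroup.eq_one_iff g).2 ?_
      rw [eq_inv_of_mul_eq_one_left (fixedPointFree hR k.2 hk1 hfix)]
      exact W.inv_mem hx
  have htr : ∀ v₀ : P ⧸ W, v₀ ≠ 1 → ∀ v : P ⧸ W, v ≠ 1 → ∃ k : K, ι k v₀ = v := by
    intro v₀ hv₀ v hv
    let f : K → {v : P ⧸ W // v ≠ 1} := fun k =>
      ⟨ι k v₀, fun h => hv₀ ((ι k).injective (h.trans (map_one _).symm))⟩
    have hinj : Function.Injective f := fun k l h => by
      by_contra hne
      refine hv₀ (hfree (l⁻¹ * k) (fun h' => hne (inv_mul_eq_one.1 h').symm) v₀ ?_)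
      have h' : ι k v₀ = ι l v₀ := congrArg Subtype.val h
      rw [map_mul, MulAut.mul_apply, h', ← MulAut.mul_apply, ← map_mul, inv_mul_cancel, map_one]
      rfl
    have hsurj : Function.Surjective f := by
      refine (hinj.bijective_of_nat_card_le ?_).2
      haveI := Fintype.ofFinite (P ⧸ W)
      rw [Nat.card_eq_fintype_card, Fintype.card_subtype_compl, Fintype.card_subtype_eq,
        ← Nat.card_eq_fintype_card, hVcard, ← card_K hR]
      omega
    obtain ⟨k, hk⟩ := hsurj ⟨v, hv⟩
    exact ⟨k, congrArg Subtype.val hk⟩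
  haveI : Fact (Nat.Prime 2) := ⟨Nat.prime_two⟩
  obtain ⟨v₁, hv₁⟩ : ∃ v : P ⧸ W, orderOf v = 2 := by
    refine exists_prime_orderOf_dvd_card' 2 ?_
    obtain ⟨n, hn⟩ := IsPGroup.iff_card.1 (hR.isPGroup.to_quotient W)
    rw [hn] at hVcard ⊢
    exact dvd_pow_self 2 (fun h => by rw [h, pow_zero] at hVcard; omega)
  have hv₁1 : v₁ ≠ 1 := fun h => by rw [h, orderOf_one] at hv₁; omega
  have hV2 : ∀ v : P ⧸ W, v * v = 1 := by
    intro v
    by_cases hv : v = 1
    · rw [hv, one_mul]
    obtain ⟨k, rfl⟩ := htr v₁ hv₁1 v hv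
    rw [← map_mul, show v₁ * v₁ = 1 by rw [← sq, ← hv₁]; exact pow_orderOf_eq_one v₁, map_one]
  have hsqW : ∀ g : P, g * g ∈ W := fun g => (QuotientGroup.eq_one_iff _).1 (hV2 (QuotientGroup.mk g))
  have hιc : ∀ (k l : K) (v : P ⧸ W), ι k (ι l v) = ι l (ι k v) := fun k l v => by
    induction v using QuotientGroup.induction_on with
    | _ g => exact congrArg QuotientGroup.mk (K_comm hR k.2 l.2 g)
  obtain ⟨F, _, _, ψV, hchar, hFcard, hψV1, hψV⟩ :=
    exists_field_regular hV2 ι hιc hv₁1 (htr v₁ hv₁1)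
  obtain ⟨g₁, rfl⟩ := QuotientGroup.mk_surjective v₁
  have he1 : g₁ * g₁ ≠ 1 := fun h => hv₁1 ((QuotientGroup.eq_one_iff g₁).2 (mem_omega_of_sq hR h))
  obtain ⟨F', _, _, ψZ', hchar', hF'card, hψZ'1, hψZ'⟩ :=
    exists_field_regular (E := W) (fun x => Subtype.ext x.2.2) (omegaAct K)
      (fun k l x => Subtype.ext (K_comm hR k.2 l.2 x)) (e := ⟨g₁ * g₁, hsqW g₁⟩)
      (fun h => he1 (congrArg Subtype.val h))
      (fun x hx => by
        obtain ⟨k, hk, -⟩ := hR.reg (g₁ * g₁) x he1 (hsqW g₁).2 (fun h => hx (Subtype.ext h)) x.2.2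
        exact ⟨k, Subtype.ext hk⟩)
  let i := FiniteField.ringEquivOfCardEq (K := F) (K' := F') (by rw [hFcard, hF'card, hVcard])
  let ψZ : Multiplicative F ≃* W := (AddEquiv.toMultiplicative i.toAddEquiv).trans ψZ'
  have hψZ : ∀ k : K, ∃ b : F, ∀ x : F,
      omegaAct K k (ψZ (Multiplicative.ofAdd x)) = ψZ (Multiplicative.ofAdd (b * x)) := by
    intro k
    obtain ⟨b, -, hb⟩ := hψZ' k
    refine ⟨i.symm b, fun x => ?_⟩
    show omegaAct K k (ψZ' (Multiplicative.ofAdd (i x))) = ψZ' (Multiplicative.ofAdd (i (i.symm b * x)))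
    rw [hb, map_mul i, RingEquiv.apply_symm_apply]
  have hψZ1 : (ψZ (Multiplicative.ofAdd (1 : F)) : P) = g₁ * g₁ := by
    show (ψZ' (Multiplicative.ofAdd (i 1)) : P) = _
    rw [map_one i, hψZ'1]
  have hwd : ∀ g g' : P, (QuotientGroup.mk g : P ⧸ W) = QuotientGroup.mk g' → g * g = g' * g' := by
    intro g g' h
    have hz : g⁻¹ * g' ∈ W := QuotientGroup.eq.1 h
    have hg : g' = g * (g⁻¹ * g') := by group
    set z := g⁻¹ * g'
    rw [hg]
    calc g * g = g * g * (z * z) := by rw [hz.2, mul_one]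
      _ = g * (g * z) * z := by group
      _ = g * (z * g) * z := by rw [Subgroup.mem_center_iff.1 hz.1 g]
      _ = g * z * (g * z) := by group
  let X : F → P := fun x => (ψV (Multiplicative.ofAdd x)).out
  have hX : ∀ x, (QuotientGroup.mk (X x) : P ⧸ W) = ψV (Multiplicative.ofAdd x) := fun x =>
    QuotientGroup.out_eq' _
  let r₀ : F → F := fun x => Multiplicative.toAdd (ψZ.symm ⟨X x * X x, hsqW _⟩)
  have hr₀ : ∀ (g : P) (x : F), (QuotientGroup.mk g : P ⧸ W) = ψV (Multiplicative.ofAdd x) →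
      (ψZ (Multiplicative.ofAdd (r₀ x)) : P) = g * g := by
    intro g x h
    simp only [r₀, ofAdd_toAdd, MulEquiv.apply_symm_apply]
    exact hwd _ _ ((hX x).trans h.symm)
  have hψZinj : ∀ {u v : F}, (ψZ (Multiplicative.ofAdd u) : P) = ψZ (Multiplicative.ofAdd v) → u = v :=
    fun h => Multiplicative.ofAdd.injective (ψZ.injective (Subtype.ext h))
  have hr1 : r₀ 1 = 1 := hψZinj (by rw [hr₀ g₁ 1 hψV1.symm, hψZ1])
  have hr0 : r₀ 0 = 0 := hψZinj (by
    rw [hr₀ 1 0 (by rw [ofAdd_zero, map_one]; rfl), one_mul, ofAdd_zero, map_one]; rfl)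
  have hrmul : ∀ a x, r₀ (a * x) = r₀ a * r₀ x := by
    intro a x
    by_cases ha : a = 0
    · rw [ha, zero_mul, hr0, zero_mul]
    obtain ⟨k, hk⟩ := htr _ hv₁1 (ψV (Multiplicative.ofAdd a)) (fun h => ha
      (Multiplicative.ofAdd.injective (ψV.injective (h.trans (map_one ψV).symm))))
    obtain ⟨a', -, ha'⟩ := hψV k
    have haa : a' = a := by
      have h1 := ha' 1
      rw [mul_one, hψV1, hk] at h1
      exact (Multiplicative.ofAdd.injective (ψV.injective h1)).symm
    subst haa
    obtain ⟨b, hb⟩ := hψZ k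
    have key : ∀ x, r₀ (a' * x) = b * r₀ x := fun x => hψZinj (by
      rw [hr₀ ((k : MulAut P) (X x)) _ (by rw [← ha', ← hX]; rfl), ← map_mul, ← hb,
        ← hr₀ (X x) x (hX x)]
      rfl)
    rw [key x]
    congr 1
    have := key 1
    rwa [mul_one, hr1, mul_one, eq_comm] at this
  let r : F →* F := { toFun := r₀, map_one' := hr1, map_mul' := hrmul }
  -- the polarisation is the commutator
  have hcW : ∀ g h : P, ⁅g, h⁆ ∈ W := fun g h => by
    rw [commutatorElement_eq_sq_prod]
    refine W.mul_mem (W.mul_mem (hsqW _) ?_) (hsqW _)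
    simpa using hWn.conj_mem _ (hsqW g⁻¹) h⁻¹
  let c : F → F → F := fun x y => Multiplicative.toAdd (ψZ.symm ⟨⁅X y, X x⁆, hcW _ _⟩)
  have hc : ∀ x y, (ψZ (Multiplicative.ofAdd (c x y)) : P) = ⁅X y, X x⁆ := fun x y => by
    simp [c]
  have hpolar : ∀ x y, r₀ (x + y) = c x y + r₀ x + r₀ y := fun x y => hψZinj (by
    rw [hr₀ (X x * X y) _ (by rw [QuotientGroup.mk_mul, hX, hX, ofAdd_add, map_mul]), ofAdd_add,
      ofAdd_add, map_mul, map_mul, Subgroup.coe_mul, Subgroup.coe_mul, hc, hr₀ (X x) x (hX x),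
      hr₀ (X y) y (hX y)]
    calc X x * X y * (X x * X y) = X x * ⁅X y, X x⁆ * (X x)⁻¹ * (X x * X x) * (X y * X y) := by
          rw [commutatorElement_def]; group
      _ = _ := by rw [omega_conj (hcW _ _)])
  have hcl : ∀ g g' h : P, ⁅g * g', h⁆ = ⁅g, h⁆ * ⁅g', h⁆ := fun g g' h => by
    calc ⁅g * g', h⁆ = (g * ⁅g', h⁆ * g⁻¹) * ⁅g, h⁆ := by simp only [commutatorElement_def]; group
      _ = ⁅g', h⁆ * ⁅g, h⁆ := by rw [omega_conj (hcW _ _)]
      _ = _ := (Subgroup.mem_center_iff.1 (hcW g' h).1 _).symm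
  have hcadd : ∀ x y z, c x (y + z) = c x y + c x z := fun x y z => hψZinj (by
    rw [hc, ofAdd_add, map_mul, Subgroup.coe_mul, hc, hc, ← hcl]
    have hmem : (X y * X z)⁻¹ * X (y + z) ∈ W := QuotientGroup.eq.1 (by
      rw [QuotientGroup.mk_mul, hX, hX, hX, ofAdd_add, map_mul])
    set w := (X y * X z)⁻¹ * X (y + z) with hw
    have e : X (y + z) = X y * X z * w := by rw [hw]; group
    rw [e, hcl, show ⁅w, X x⁆ = 1 from commutatorElement_eq_one_iff_mul_comm.2
      (Subgroup.mem_center_iff.1 hmem.1 _).symm, mul_one])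
  have h2 : ∀ a : F, a + a = 0 := CharTwo.add_self_eq_zero
  have hq : ∀ x y z : F,
      r (x + y + z) + r (x + y) + r (x + z) + r (y + z) + r x + r y + r z = 0 := by
    intro x y z
    show r₀ (x + y + z) + r₀ (x + y) + r₀ (x + z) + r₀ (y + z) + r₀ x + r₀ y + r₀ z = 0
    have e1 := hpolar x (y + z)
    rw [hcadd, ← add_assoc x y z] at e1
    have e2 := hpolar x y
    have e3 := hpolar x z
    linear_combination e1 + e2 + e3 + h2 (c x y) + h2 (c x z) + h2 (r₀ (y + z)) + h2 (r₀ x) +
      h2 (r₀ x) + h2 (r₀ y) + h2 (r₀ z)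
  obtain ⟨σ, τ, hστ⟩ := exists_pair_of_multiplicative r hq
  set φ : F ≃+* F := τ.trans σ.symm with hφ
  have hrφ : ∀ x, r₀ x = σ (φ x * x) := fun x => by
    show r x = _
    rw [hστ, map_mul, hφ]
    simp [mul_comm]
  refine ⟨F, inferInstance, inferInstance, φ, by rw [hFcard, hVcard], ?_, ?_, ?_⟩
  · intro hid
    obtain ⟨g, h, hgh⟩ := hna
    apply hgh
    have hc0 : ∀ x y, c x y = 0 := fun x y => by
      have h0 := hpolar x y
      rw [hrφ, hrφ, hrφ, hid] at h0
      simp only [RingEquiv.refl_apply, map_mul, map_add] at h0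
      linear_combination -h0 + (σ x * σ y) * h2 1
    have hrep : ∀ g : P, ∃ x, ∃ w ∈ W, g = X x * w := fun g => by
      refine ⟨Multiplicative.toAdd (ψV.symm (QuotientGroup.mk g)),
        (X (Multiplicative.toAdd (ψV.symm (QuotientGroup.mk g))))⁻¹ * g, QuotientGroup.eq.1 ?_,
        by group⟩
      rw [hX, ofAdd_toAdd, MulEquiv.apply_symm_apply]
    obtain ⟨x, w, hw, rfl⟩ := hrep g
    obtain ⟨y, w', hw', rfl⟩ := hrep h
    have hxy : X x * X y = X y * X x := by
      have := hc y x
      rw [hc0, ofAdd_zero, map_one] at this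
      exact commutatorElement_eq_one_iff_mul_comm.1 this.symm
    have c1 : ∀ u, u * w = w * u := fun u => Subgroup.mem_center_iff.1 hw.1 u
    have c2 : ∀ u, u * w' = w' * u := fun u => Subgroup.mem_center_iff.1 hw'.1 u
    calc X x * w * (X y * w') = X x * (w * X y) * w' := by group
      _ = X x * (X y * w) * w' := by rw [c1]
      _ = (X x * X y) * (w * w') := by group
      _ = (X y * X x) * (w' * w) := by rw [hxy, c2]
      _ = X y * (X x * w') * w := by group
      _ = X y * (w' * X x) * w := by rw [c2]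
      _ = X y * w' * (X x * w) := by group
  · refine odd_order_of_injective φ fun x hx => ?_
    by_contra hx1
    have hx0 : x ≠ 0 := fun h => by rw [h, zero_mul] at hx; exact zero_ne_one hx
    have hr : r₀ x = 1 := by rw [hrφ, mul_comm, hx, map_one]
    obtain ⟨k, hk⟩ := htr _ hv₁1 (ψV (Multiplicative.ofAdd x)) (fun h => hx0
      (Multiplicative.ofAdd.injective (ψV.injective (h.trans (map_one ψV).symm))))
    have h1 : (ψZ (Multiplicative.ofAdd (r₀ x)) : P) = (k : MulAut P) (g₁ * g₁) := by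
      rw [hr₀ ((k : MulAut P) g₁) x hk, map_mul]
    rw [hr, hψZ1] at h1
    have hk1 : k = 1 := by
      refine Subtype.ext (Classical.byContradiction fun hne => ?_)
      exact he1 (fixedPointFree hR k.2 hne h1.symm)
    rw [hk1, map_one, MulAut.one_apply, ← hψV1] at hk
    exact hx1 (Multiplicative.ofAdd.injective (ψV.injective hk)).symm
  · let T := Cfsg.suzukiTypeA F (φ : F →+* F)
    have hT : ∀ g : T, ∃ x y, (g : GL (Fin 3) F) = typeAElt φ x y :=
      fun g => (mem_suzukiTypeA φ).1 g.2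
    choose xT yT hxy using hT
    have hinj : ∀ {x y x' y' : F}, typeAElt φ x y = typeAElt φ x' y' → x = x' ∧ y = y' :=
      fun h => typeAMat_inj φ (congrArg Units.val h)
    let π₁ : P →* Multiplicative F := ψV.symm.toMonoidHom.comp (QuotientGroup.mk' W)
    let π₂ : T →* Multiplicative F := MonoidHom.mk' (fun g => Multiplicative.ofAdd (xT g)) (fun g h => by
      have e : typeAElt φ (xT (g * h)) (yT (g * h)) =
          typeAElt φ (xT g + xT h) (yT g + φ (xT g) * xT h + yT h) := by
        rw [← hxy, Subgroup.coe_mul, hxy, hxy, typeAElt_mul]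
      rw [← ofAdd_add, (hinj e).1])
    let ι₁ : Multiplicative F →* P := MonoidHom.mk'
      (fun y => (ψZ (Multiplicative.ofAdd (σ (Multiplicative.toAdd y))) : P))
      (fun y y' => by simp [map_add, ofAdd_add])
    let ι₂ : Multiplicative F →* T := MonoidHom.mk'
      (fun y => ⟨typeAElt φ 0 (Multiplicative.toAdd y), (mem_suzukiTypeA φ).2 ⟨_, _, rfl⟩⟩)
      (fun y y' => Subtype.ext (by
        show typeAElt φ 0 _ = typeAElt φ 0 _ * typeAElt φ 0 _
        rw [typeAElt_mul, map_zero, zero_mul, add_zero, add_zero]; rfl))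
    have hcen₂ : ∀ (z : Multiplicative F) (g : T), g * ι₂ z = ι₂ z * g := fun z g => Subtype.ext (by
      show (g : GL (Fin 3) F) * typeAElt φ 0 _ = typeAElt φ 0 _ * (g : GL (Fin 3) F)
      rw [hxy g, typeAElt_mul, typeAElt_mul, map_zero, zero_mul, mul_zero]
      congr 1 <;> ring)
    refine mulEquiv_of_squares π₁ π₂ (ψV.symm.surjective.comp (QuotientGroup.mk'_surjective W))
      (fun v => ?_) ι₁ ι₂ ?_ ?_ ?_ ?_ (fun z g => Subgroup.mem_center_iff.1 (ψZ _).2.1 g) hcen₂ ?_
    · refine ⟨⟨typeAElt φ (Multiplicative.toAdd v) 0, (mem_suzukiTypeA φ).2 ⟨_, _, rfl⟩⟩, ?_⟩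
      exact congrArg Multiplicative.ofAdd (hinj (hxy ⟨typeAElt φ (Multiplicative.toAdd v) 0, _⟩)).1.symm
    · intro y y' h
      exact Multiplicative.toAdd.injective (σ.injective (hψZinj h))
    · intro y y' h
      exact Multiplicative.toAdd.injective (hinj (congrArg Subtype.val h)).2
    · ext g
      show ψV.symm (QuotientGroup.mk g) = 1 ↔ _
      rw [map_eq_one_iff _ ψV.symm.injective, QuotientGroup.eq_one_iff]
      constructor
      · intro h
        refine ⟨Multiplicative.ofAdd (σ.symm (Multiplicative.toAdd (ψZ.symm ⟨g, h⟩))), ?_⟩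
        simp [ι₁]
      · rintro ⟨y, rfl⟩
        exact (ψZ _).2
    · ext g
      show Multiplicative.ofAdd (xT g) = 1 ↔ _
      constructor
      · intro h
        refine ⟨Multiplicative.ofAdd (yT g), Subtype.ext ?_⟩
        show typeAElt φ 0 (yT g) = g
        rw [hxy g, show xT g = 0 from h]
      · rintro ⟨y, rfl⟩
        have h := (hinj (hxy (ι₂ y))).1
        rw [← h]; rfl
    · intro g h hgh
      have hgh' : (QuotientGroup.mk g : P ⧸ W) = ψV (Multiplicative.ofAdd (xT h)) :=
        ψV.symm_apply_eq.1 hgh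
      refine ⟨Multiplicative.ofAdd (φ (xT h) * xT h), ?_, Subtype.ext ?_⟩
      · show g * g = (ψZ (Multiplicative.ofAdd (σ (φ (xT h) * xT h))) : P)
        rw [← hrφ, hr₀ g _ hgh']
      · show (h : GL (Fin 3) F) * h = typeAElt φ 0 _
        rw [hxy h, typeAElt_mul, h2, toAdd_ofAdd]
        congr 1
        linear_combination h2 (yT h)

end CfsgLib.SuzukiTwo
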