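import Mathlib
import Cfsg.Agent.Lib.SuzukiTwo.Center
import Cfsg.Agent.Lib.SuzukiTwo.TypeA
import Cfsg.Agent.Lib.SuzukiTwo.TwistDecomp

/-! Higman: in a Suzuki 2-group the commutator subgroup is central. -/

set_option autoImplicit false

open scoped commutatorElement

namespace CfsgLib.SuzukiTwo

variable {P : Type*} [Group P] {K : Subgroup (MulAut P)}

/-- No element of `K#` fixes a nontrivial coset of an invariant subgroup. -/
theorem mem_of_coset_fixed (hR : RegularInv K) {N : Subgroup P} (hN : KInv K N) {k : MulAut P}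
    (hk : k ∈ K) (hk1 : k ≠ 1) {g : P} (hg : g⁻¹ * k g ∈ N) : g ∈ N := by
  haveI := hR.fin
  let φ : N → N := fun x => ⟨(x : P) * (k x)⁻¹, N.mul_mem x.2 (N.inv_mem (hN k hk x x.2))⟩
  have hinj : Function.Injective φ := by
    intro x x' he
    have he' : (x : P) * (k x)⁻¹ = (x' : P) * (k x')⁻¹ := congrArg Subtype.val he
    have hfix : k ((x' : P)⁻¹ * x) = (x' : P)⁻¹ * x := by
      rw [map_mul, map_inv]
      calc (k x')⁻¹ * k x = (x' : P)⁻¹ * ((x' : P) * (k x')⁻¹) * k x := by group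
        _ = (x' : P)⁻¹ * x := by rw [← he']; group
    exact Subtype.ext (inv_mul_eq_one.1 (fixedPointFree hR hk hk1 hfix)).symm
  obtain ⟨⟨x, hx⟩, hxe⟩ := (Finite.injective_iff_surjective.1 hinj) ⟨_, hg⟩
  have hxe' : x * (k x)⁻¹ = g⁻¹ * k g := congrArg Subtype.val hxe
  have hfix : k (g * x) = g * x := by
    rw [map_mul]
    calc k g * k x = g * (g⁻¹ * k g) * k x := by group
      _ = g * x := by rw [← hxe']; group
  rw [eq_inv_of_mul_eq_one_left (fixedPointFree hR hk hk1 hfix)]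
  exact N.inv_mem hx

/-- If the deviations on `B` are central involutions, commutators centralise `B`. -/
theorem comm_mem_centralizer {B : Subgroup P}
    (hB : ∀ b ∈ B, ∀ g : P, ⁅g, b⁆ ∈ omegaCenter P) (g h : P) :
    ⁅g, h⁆ ∈ Subgroup.centralizer (B : Set P) := by
  refine Subgroup.mem_centralizer_iff.2 fun b hb => ?_
  have hmul : ∀ u v : P, ⁅u * v, b⁆ = ⁅u, b⁆ * ⁅v, b⁆ := fun u v => by
    calc ⁅u * v, b⁆ = (u * ⁅v, b⁆ * u⁻¹) * ⁅u, b⁆ := by simp only [commutatorElement_def]; group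
      _ = ⁅v, b⁆ * ⁅u, b⁆ := by rw [omega_conj (hB b hb v)]
      _ = _ := (Subgroup.mem_center_iff.1 (hB b hb v).1 _).symm
  let δ : P →* omegaCenter P :=
    MonoidHom.mk' (fun u => ⟨⁅u, b⁆, hB b hb u⟩) fun u v => Subtype.ext (hmul u v)
  have : δ ⁅g, h⁆ = 1 := by
    rw [map_commutatorElement, commutatorElement_eq_one_iff_mul_comm]
    exact omegaCenter_comm _ _
  exact (commutatorElement_eq_one_iff_mul_comm.1 (congrArg Subtype.val this)).symm

section four

variable {A : Subgroup P} [hAn : A.Normal]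

/-- The core case: a self-centralising invariant homocyclic subgroup of exponent four. -/
theorem commutator_mem_of_four (hR : RegularInv K) (hA : HomoData K A 2)
    (hC : Subgroup.centralizer (A : Set P) = A) (g₀ h₀ : P) : ⁅g₀, h₀⁆ ∈ omegaCenter P := by
  classical
  haveI := hR.fin
  haveI := hR.cyclic
  set W := omegaCenter P with hW
  have hWA : W ≤ A := omega_le_A hA hR
  have hdevW : ∀ (g : P) {x : P}, x ∈ A → ⁅g, x⁆ ∈ W := fun g x hx =>
    mem_omega_of_sq hR (by rw [← sq]; simpa using dev_pi hR hA hx g)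
  have hsqW : ∀ {x : P}, x ∈ A → x * x ∈ W := fun {x} hx => by
    have h := pi_mem hA hR hx
    rwa [show (2 : ℕ) - 1 = 1 from rfl, pow_one, sq] at h
  have hsqA : ∀ g : P, g * g ∈ A := fun g => by
    rw [← hC]
    refine Subgroup.mem_centralizer_iff.2 fun x hx => (commutatorElement_eq_one_iff_mul_comm.1 ?_).symm
    calc ⁅g * g, x⁆ = (g * ⁅g, x⁆ * g⁻¹) * ⁅g, x⁆ := by simp only [commutatorElement_def]; group
      _ = 1 := by rw [omega_conj (hdevW g hx)]; exact (hdevW g hx).2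
  have hcommA : ∀ g h : P, ⁅g, h⁆ ∈ A := fun g h =>
    hC ▸ comm_mem_centralizer (fun b hb u => hdevW u hb) g h
  -- the field on the central involutions
  obtain ⟨e₀, he₀, he₀1⟩ := exists_omega_ne_one hR
  obtain ⟨F, _, _, ψ, hchar, -, -, hψ⟩ :=
    exists_field_regular (E := W) (fun x => Subtype.ext x.2.2) (omegaAct K)
      (fun k l x => Subtype.ext (K_comm hR k.2 l.2 x)) (e := ⟨e₀, he₀⟩)
      (fun h => he₀1 (congrArg Subtype.val h))
      (fun x hx => by
        obtain ⟨k, hk, -⟩ := hR.reg e₀ x he₀1 he₀.2 (fun h => hx (Subtype.ext h)) x.2.2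
        exact ⟨k, Subtype.ext hk⟩)
  haveI := hchar
  let lg : P → F := fun z => if h : z ∈ W then Multiplicative.toAdd (ψ.symm ⟨z, h⟩) else 0
  have hlg1 : lg 1 = 0 := by
    rw [show lg 1 = _ from dif_pos W.one_mem]
    exact (congrArg Multiplicative.toAdd (map_one ψ.symm)).trans toAdd_one
  have hlgm : ∀ {y z : P}, y ∈ W → z ∈ W → lg (y * z) = lg y + lg z := fun {y z} hy hz => by
    simp only [lg, dif_pos hy, dif_pos hz, dif_pos (W.mul_mem hy hz), ← toAdd_mul, ← map_mul]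
    rfl
  have hlg0 : ∀ {z : P}, z ∈ W → lg z = 0 → z = 1 := fun {z} hz h => by
    simp only [lg, dif_pos hz] at h
    have h' : ψ.symm ⟨z, hz⟩ = 1 := toAdd_eq_zero.1 h
    exact congrArg Subtype.val ((MulEquiv.map_eq_one_iff ψ.symm).1 h')
  have hlgi : ∀ {z : P}, z ∈ W → lg z⁻¹ = lg z := fun {z} hz => by
    rw [inv_eq_of_mul_eq_one_right hz.2]
  have hlgs : ∀ t : F, ∃ z ∈ W, lg z = t := fun t => by
    refine ⟨_, (ψ (Multiplicative.ofAdd t)).2, ?_⟩
    simp only [lg, dif_pos (ψ (Multiplicative.ofAdd t)).2, Subtype.coe_eta, MulEquiv.symm_apply_apply,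
      toAdd_ofAdd]
  have hK : ∀ k : K, ∃ a : F, a ≠ 0 ∧ ∀ z ∈ W, lg ((k : MulAut P) z) = a * lg z := fun k => by
    obtain ⟨a, ha, h⟩ := hψ k
    refine ⟨a, ha, fun z hz => ?_⟩
    have hkz : (k : MulAut P) z ∈ W := kInv_omegaCenter _ k.2 z hz
    simp only [lg, dif_pos hz, dif_pos hkz]
    have h' := h (Multiplicative.toAdd (ψ.symm ⟨z, hz⟩))
    rw [ofAdd_toAdd, MulEquiv.apply_symm_apply] at h'
    rw [show (⟨(k : MulAut P) z, hkz⟩ : W) = omegaAct K k ⟨z, hz⟩ from rfl, h',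
      MulEquiv.symm_apply_apply, toAdd_ofAdd]
  choose A' hA'0 hA' using hK
  obtain ⟨k₀, hk₀⟩ := IsCyclic.exists_monoid_generator (α := K)
  set a := A' k₀ with hadef
  have hpow : ∀ (m : ℕ) (z : P), z ∈ W → lg ((↑(k₀ ^ m) : MulAut P) z) = a ^ m * lg z := by
    intro m
    induction m with
    | zero => intro z _; simp
    | succ m ih =>
      intro z hz
      rw [pow_succ, Subgroup.coe_mul, MulAut.mul_apply, ih _ (kInv_omegaCenter _ k₀.2 z hz),
        hA' k₀ z hz, pow_succ, mul_assoc]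
  have hgen : ∀ x : F, x ≠ 0 → ∃ m : ℕ, a ^ m = x := fun x hx => by
    obtain ⟨z, hz, hzx⟩ := hlgs x
    obtain ⟨y, hy, hy1⟩ := hlgs 1
    obtain ⟨k, hk, -⟩ := hR.reg y z (fun h => one_ne_zero (α := F) (by rw [← hy1, h, hlg1])) hy.2
      (fun h => hx (by rw [← hzx, h, hlg1])) hz.2
    obtain ⟨m, hm⟩ := (Submonoid.mem_powers_iff _ _).1 (hk₀ k)
    refine ⟨m, ?_⟩
    have := hpow m y hy
    rw [hm, hk, hzx, hy1, mul_one] at this
    exact this.symm
  have ha0 : a ≠ 0 := hA'0 k₀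
  -- squaring on `A`
  let sq' : P → F := fun x => lg (x * x)
  have hsm : ∀ {x y : P}, x ∈ A → y ∈ A → sq' (x * y) = sq' x + sq' y := fun {x y} hx hy => by
    show lg (x * y * (x * y)) = _
    rw [← hlgm (hsqW hx) (hsqW hy)]
    refine congrArg lg ?_
    calc x * y * (x * y) = x * (y * x) * y := by group
      _ = x * (x * y) * y := by rw [hA.comm y hy x hx]
      _ = _ := by group
  have hs0W : ∀ {x : P}, x ∈ W → sq' x = 0 := fun {x} hx => by
    show lg (x * x) = 0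
    rw [hx.2, hlg1]
  have hs0 : ∀ {x : P}, x ∈ A → sq' x = 0 → x ∈ W := fun {x} hx h =>
    mem_omega_of_sq hR (hlg0 (hsqW hx) h)
  have hssurj : ∀ t : F, ∃ x ∈ A, sq' x = t := fun t => by
    obtain ⟨z, hz, hzt⟩ := hlgs t
    obtain ⟨x, hx, hxz⟩ := pi_surj hA hR hz
    rw [show (2 : ℕ) - 1 = 1 from rfl, pow_one, sq] at hxz
    exact ⟨x, hx, by show lg (x * x) = t; rw [hxz, hzt]⟩
  have hsconj : ∀ (g : P) {x : P}, x ∈ A → sq' (g * x * g⁻¹) = sq' x := fun g x hx => by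
    show lg (g * x * g⁻¹ * (g * x * g⁻¹)) = _
    rw [show g * x * g⁻¹ * (g * x * g⁻¹) = g * (x * x) * g⁻¹ by group, omega_conj (hsqW hx)]
  choose rt hrtA hrt using hssurj
  have hDW : ∀ (g : P) {x y : P}, x ∈ A → y ∈ A → sq' x = sq' y → lg ⁅g, x⁆ = lg ⁅g, y⁆ := by
    intro g x y hx hy h
    have hw : x⁻¹ * y ∈ W := hs0 (A.mul_mem (A.inv_mem hx) hy) (by
      have h1 := hsm hx (A.mul_mem (A.inv_mem hx) hy)
      rw [mul_inv_cancel_left, ← h] at h1
      exact add_eq_left.1 h1.symm)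
    rw [show ⁅g, y⁆ = ⁅g, x * (x⁻¹ * y)⁆ by rw [mul_inv_cancel_left],
      show ⁅g, x * (x⁻¹ * y)⁆ = ⁅g, x⁆ * (x * ⁅g, x⁻¹ * y⁆ * x⁻¹) by
        simp only [commutatorElement_def]; group,
      show ⁅g, x⁻¹ * y⁆ = 1 from commutatorElement_eq_one_iff_mul_comm.2
        (Subgroup.mem_center_iff.1 hw.1 g), mul_one, mul_inv_cancel, mul_one]
  let D : P → F →+ F := fun g => AddMonoidHom.mk' (fun t => lg ⁅g, rt t⁆) fun u v => by
    have hx := hrtA u
    have hy := hrtA v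
    rw [hDW g (hrtA (u + v)) (A.mul_mem hx hy) (by rw [hrt, hsm hx hy, hrt, hrt]),
      show ⁅g, rt u * rt v⁆ = ⁅g, rt u⁆ * ⁅g, rt v⁆ from dev_mul_right hA hx hy g]
    exact hlgm (hdevW g hx) (hdevW g hy)
  have hD : ∀ (g : P) {x : P}, x ∈ A → lg ⁅g, x⁆ = D g (sq' x) := fun g x hx =>
    hDW g hx (hrtA _) (hrt _).symm
  have hDmul : ∀ g h, D (g * h) = D g + D h := fun g h => AddMonoidHom.ext fun t => by
    show lg ⁅g * h, rt t⁆ = lg ⁅g, rt t⁆ + lg ⁅h, rt t⁆
    rw [show ⁅g * h, rt t⁆ = (g * ⁅h, rt t⁆ * g⁻¹) * ⁅g, rt t⁆ by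
      simp only [commutatorElement_def]; group, omega_conj (hdevW h (hrtA t)),
      hlgm (hdevW h (hrtA t)) (hdevW g (hrtA t)), add_comm]
  have hDmem : ∀ g, D g = 0 → g ∈ A := fun g h => by
    rw [← hC]
    refine Subgroup.mem_centralizer_iff.2 fun x hx => (commutatorElement_eq_one_iff_mul_comm.1 ?_).symm
    exact hlg0 (hdevW g hx) (by rw [hD g hx, h]; rfl)
  have hDA : ∀ g ∈ A, D g = 0 := fun g hg => AddMonoidHom.ext fun t => by
    show lg ⁅g, rt t⁆ = 0
    rw [commutatorElement_eq_one_iff_mul_comm.2 (hA.comm g hg _ (hrtA t)), hlg1]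
  have hDk : ∀ g t, D ((k₀ : MulAut P) g) (a * t) = a * D g t := by
    intro g t
    have hs' : sq' ((k₀ : MulAut P) (rt t)) = a * t := by
      show lg ((k₀ : MulAut P) (rt t) * (k₀ : MulAut P) (rt t)) = _
      rw [← map_mul, hA' k₀ _ (hsqW (hrtA t)), show lg (rt t * rt t) = t from hrt t]
    have := hD ((k₀ : MulAut P) g) (hA.inv _ k₀.2 _ (hrtA t))
    rw [hs'] at this
    rw [← this, ← map_commutatorElement, hA' k₀ _ (hdevW g (hrtA t))]
    rfl
  have hk₀1 : (k₀ : MulAut P) ≠ 1 := fun h => by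
    obtain ⟨k, hk, hk1⟩ := exists_ne_one_K hR
    obtain ⟨m, hm⟩ := (Submonoid.mem_powers_iff _ _).1 (hk₀ ⟨k, hk⟩)
    refine hk1 ((congrArg Subtype.val hm).symm.trans ?_)
    rw [Subgroup.coe_pow, h, one_pow]
  have hfix : ∀ g, D ((k₀ : MulAut P) g) = D g → D g = 0 := fun g h => by
    refine hDA g (mem_of_coset_fixed hR hA.inv k₀.2 hk₀1 (hDmem _ ?_))
    have h1 := hDmul g (g⁻¹ * (k₀ : MulAut P) g)
    rw [mul_inv_cancel_left, h] at h1
    exact add_eq_left.1 h1.symm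
  let γ : P → P → F := fun g h => sq' ⁅g, h⁆
  have hγl : ∀ g h u, γ (g * h) u = γ g u + γ h u := fun g h u => by
    show sq' ⁅g * h, u⁆ = sq' ⁅g, u⁆ + sq' ⁅h, u⁆
    rw [show ⁅g * h, u⁆ = (g * ⁅h, u⁆ * g⁻¹) * ⁅g, u⁆ by simp only [commutatorElement_def]; group,
      hsm (hAn.conj_mem _ (hcommA h u) g) (hcommA g u), hsconj g (hcommA h u), add_comm]
  have hγs : ∀ g h, γ g h = γ h g := fun g h => by
    show lg (⁅g, h⁆ * ⁅g, h⁆) = lg (⁅h, g⁆ * ⁅h, g⁆)
    rw [← commutatorElement_inv h g, ← mul_inv_rev, hlgi (hsqW (hcommA h g))]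
  have hR1 : ∀ g, D g (sq' (g * g)) = 0 := fun g => by
    rw [← hD g (hsqA g), show ⁅g, g * g⁆ = 1 from
      commutatorElement_eq_one_iff_mul_comm.2 (by group), hlg1]
  have hR2 : ∀ g h, D h (sq' (g * g)) = D g (γ h g) + γ h g := fun g h => by
    rw [← hD h (hsqA g), show γ h g = sq' ⁅h, g⁆ from rfl, ← hD g (hcommA h g),
      show sq' ⁅h, g⁆ = lg (⁅h, g⁆ * ⁅h, g⁆) from rfl,
      ← hlgm (hdevW g (hcommA h g)) (hsqW (hcommA h g))]
    refine congrArg lg ?_
    calc ⁅h, g * g⁆ = ⁅h, g⁆ * (⁅g, ⁅h, g⁆⁆ * ⁅h, g⁆) := by simp only [commutatorElement_def]; group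
      _ = ⁅h, g⁆ * (⁅h, g⁆ * ⁅g, ⁅h, g⁆⁆) := by
        rw [hA.comm _ (hcommA h g) _ (hWA (hdevW g (hcommA h g)))]
      _ = ⁅h, g⁆ * ⁅h, g⁆ * ⁅g, ⁅h, g⁆⁆ := by group
      _ = _ := (Subgroup.mem_center_iff.1 (hdevW g (hcommA h g)).1 _)
  refine hs0 (hcommA g₀ h₀) (twist_pairing_eq_zero D hDmul (fun g => (k₀ : MulAut P) g) ha0 hgen
    hDk hfix γ (fun g => sq' (g * g)) hγl hγs (fun g hg h => hs0W ?_)
    (fun g hg => hs0W (hsqW (hDmem g hg))) hR1 hR2 g₀ h₀)
  rw [← commutatorElement_inv h g]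
  exact W.inv_mem (hdevW h (hDmem g hg))

end four

/-- Commutators of a Suzuki 2-group are central involutions. -/
theorem commutator_mem_omega (hR : RegularInv K) (hna : ∃ x y : P, x * y ≠ y * x) (g h : P) :
    ⁅g, h⁆ ∈ omegaCenter P := by
  classical
  haveI := hR.fin
  set W := omegaCenter P with hW
  obtain ⟨e₀, he₀, he₀1⟩ := exists_omega_ne_one hR
  haveI hWn : W.Normal := ⟨fun x hx g => by rw [omega_conj hx]; exact hx⟩
  let S : Set (Subgroup P) :=
    {A | A.Normal ∧ (∀ a ∈ A, ∀ b ∈ A, a * b = b * a) ∧ KInv K A ∧ W ≤ A}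
  obtain ⟨A, ⟨hAn, hAc, hAi, hWA⟩, hmax⟩ := (Set.toFinite S).exists_maximal
    ⟨W, hWn, fun a _ b hb => Subgroup.mem_center_iff.1 hb.1 a, kInv_omegaCenter, le_rfl⟩
  haveI := hAn
  have hAne : A ≠ ⊥ := fun hb => he₀1 (by
    have := hWA he₀; rw [hb, Subgroup.mem_bot] at this; exact this)
  obtain ⟨f, hA⟩ := exists_homoData hR hAc hAi hAne
  have hf1 := one_le_f hA
  rcases Nat.lt_or_ge f 2 with hf | hf
  · -- `A` is the central involutions
    have hAW : A = W := le_antisymm (fun a ha => mem_omega_of_sq hR (by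
      have := hA.pow_eq a ha
      rwa [show f = 1 by omega, pow_one, sq] at this)) hWA
    subst hAW
    set B := stepSubgroup W (⊤ : Subgroup P) with hB
    have hBW : ∀ b ∈ B, ∀ u, ⁅u, b⁆ ∈ W := fun b hb u => by
      rw [← commutatorElement_inv b u]
      exact W.inv_mem ((mem_stepSubgroup.1 hb).1.2 u)
    haveI hBn : B.Normal := (stepSubgroup_normal le_top).1
    set C := Subgroup.centralizer (B : Set P) with hCd
    haveI hCn : C.Normal := Subgroup.normal_centralizer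
    have hWC : W ≤ C := fun w hw => Subgroup.mem_centralizer_iff.2 fun b _ =>
      Subgroup.mem_center_iff.1 hw.1 b
    have hCW : C ≤ W := by
      by_contra hle
      have hlt : W < C := lt_of_le_not_ge hWC hle
      have hsB : stepSubgroup W C ≤ B := inf_le_inf_left _ le_top
      obtain ⟨hsn, -⟩ := stepSubgroup_normal hlt.le
      have hlts := lt_stepSubgroup hR.isPGroup hlt
      refine hlts.not_ge (hmax ⟨hsn, fun a ha b hb => ?_, stepSubgroup_kInv kInv_omegaCenter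
        (centralizer_kInv (stepSubgroup_kInv kInv_omegaCenter fun _ _ _ _ => Subgroup.mem_top _)),
        hlts.le⟩ hlts.le)
      exact (Subgroup.mem_centralizer_iff.1 (mem_stepSubgroup.1 ha).2 b (hsB hb)).symm
    exact hCW (comm_mem_centralizer hBW g h)
  · have hC : Subgroup.centralizer (A : Set P) = A := by
      have hAC : A ≤ Subgroup.centralizer (A : Set P) := fun a ha =>
        Subgroup.mem_centralizer_iff.2 fun b hb => hAc b hb a ha
      rcases eq_or_lt_of_le hAC with hC | hC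
      · exact hC.symm
      exfalso
      haveI : (Subgroup.centralizer (A : Set P)).Normal := Subgroup.normal_centralizer
      have hlt := lt_stepSubgroup hR.isPGroup hC
      obtain ⟨hBn, -⟩ := stepSubgroup_normal hC.le
      exact hlt.not_ge (hmax ⟨hBn, stepSubgroup_comm hR hA hf hlt,
        stepSubgroup_kInv hAi (centralizer_kInv hAi), hWA.trans hlt.le⟩ hlt.le)
    have hf2 : f = 2 := by
      by_contra hne
      have hAtop : A < ⊤ := lt_top_iff_ne_top.2 fun h => by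
        obtain ⟨x, y, hxy⟩ := hna
        exact hxy (hAc x (h ▸ Subgroup.mem_top x) y (h ▸ Subgroup.mem_top y))
      exact (lt_stepSubgroup hR.isPGroup hAtop).not_ge (eq_bot_step hR hA (by omega) hC)
    subst hf2
    exact commutator_mem_of_four hR hA hC g h

end CfsgLib.SuzukiTwo
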