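import Mathlib
import Cfsg.Prelude.Def_LieRecognition

/-! The Suzuki 2-group of unitary type: pairs `(x, l)` with `l + σ l + x σ x = 0`. -/

set_option autoImplicit false

namespace CfsgLib.SuzukiTwo

/-- Pairs of unitary type for an involutory automorphism `σ`. -/
@[ext]
structure UnitaryPair {F : Type*} [Field F] (σ : F →+* F) (hσ : ∀ a, σ (σ a) = a) where
  fst : F
  snd : F
  cond : snd + σ snd + fst * σ fst = 0

namespace UnitaryPair

variable {F : Type*} [Field F] {σ : F →+* F} {hσ : ∀ a, σ (σ a) = a}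

instance instGroupUnitaryPair : Group (UnitaryPair σ hσ) where
  mul p r := ⟨p.fst + r.fst, p.snd + r.snd - r.fst * σ p.fst, by
    rw [map_sub, map_add, map_add, map_mul, hσ]
    linear_combination p.cond + r.cond⟩
  one := ⟨0, 0, by simp⟩
  inv p := ⟨-p.fst, σ p.snd, by rw [hσ, map_neg]; linear_combination p.cond⟩
  mul_assoc p r s := by
    refine UnitaryPair.ext (add_assoc _ _ _) ?_
    show p.snd + r.snd - r.fst * σ p.fst + s.snd - s.fst * σ (p.fst + r.fst) =
      p.snd + (r.snd + s.snd - s.fst * σ r.fst) - (r.fst + s.fst) * σ p.fst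
    rw [map_add]; ring
  one_mul p := by
    refine UnitaryPair.ext (zero_add _) ?_
    show 0 + p.snd - p.fst * σ 0 = p.snd
    simp
  mul_one p := by
    refine UnitaryPair.ext (add_zero _) ?_
    show p.snd + 0 - 0 * σ p.fst = p.snd
    simp
  inv_mul_cancel p := by
    refine UnitaryPair.ext (neg_add_cancel _) ?_
    show σ p.snd + p.snd - p.fst * σ (-p.fst) = 0
    rw [map_neg]; linear_combination p.cond

@[simp] theorem mul_fst (p r : UnitaryPair σ hσ) : (p * r).fst = p.fst + r.fst := rfl
@[simp] theorem mul_snd (p r : UnitaryPair σ hσ) :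
    (p * r).snd = p.snd + r.snd - r.fst * σ p.fst := rfl
@[simp] theorem one_fst : (1 : UnitaryPair σ hσ).fst = 0 := rfl
@[simp] theorem one_snd : (1 : UnitaryPair σ hσ).snd = 0 := rfl

/-- The automorphism attached to a fixed unit. -/
def scale (a : F) (ha : a ≠ 0) (haσ : σ a = a) : MulAut (UnitaryPair σ hσ) where
  toFun p := ⟨a * p.fst, a * a * p.snd, by
    rw [map_mul, map_mul, map_mul, haσ]; linear_combination a * a * p.cond⟩
  invFun p := ⟨a⁻¹ * p.fst, a⁻¹ * a⁻¹ * p.snd, by
    rw [map_mul, map_mul, map_mul, map_inv₀, haσ]; linear_combination a⁻¹ * a⁻¹ * p.cond⟩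
  left_inv p := by ext <;> field_simp
  right_inv p := by ext <;> field_simp
  map_mul' p r := by
    ext
    · show a * (p.fst + r.fst) = _
      simp [mul_add]
    · show a * a * (p.snd + r.snd - r.fst * σ p.fst) =
        a * a * p.snd + a * a * r.snd - a * r.fst * σ (a * p.fst)
      rw [map_mul, haσ]; ring

/-- The units fixed by `σ`. -/
def fixedUnits (σ : F →+* F) : Subgroup Fˣ where
  carrier := {u | σ u = u}
  mul_mem' {u v} hu hv := by
    show σ ((u : F) * (v : F)) = (u : F) * (v : F)
    rw [map_mul, show σ (u : F) = u from hu, show σ (v : F) = v from hv]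
  one_mem' := map_one σ
  inv_mem' {u} hu := by
    show σ ((u⁻¹ : Fˣ) : F) = ((u⁻¹ : Fˣ) : F)
    rw [Units.val_inv_eq_inv_val, map_inv₀, show σ (u : F) = u from hu]

variable (σ hσ)

/-- Scaling as a homomorphism into the automorphism group. -/
def scaleHom : fixedUnits σ →* MulAut (UnitaryPair σ hσ) where
  toFun u := scale (hσ := hσ) (u : Fˣ) (Units.ne_zero _) u.2
  map_one' := by ext p <;> simp [scale]
  map_mul' u v := by ext p <;> simp [scale] <;> ring

variable {σ hσ} [Fintype F] [CharP F 2] {q : ℕ} (hq : Fintype.card F = q ^ 2)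
  (hfix : Nat.card {a : F // σ a = a} = q)

include hσ

/-- The trace to the fixed field. -/
theorem trace_surj (hq : Fintype.card F = q ^ 2) (hfix : Nat.card {a : F // σ a = a} = q) {c : F}
    (hc : σ c = c) : ∃ l : F, l + σ l = c := by
  classical
  let T : F →+ F := AddMonoidHom.id F + σ.toAddMonoidHom
  have hT : ∀ l, T l = l + σ l := fun l => rfl
  have hker : Nat.card T.ker = q := by
    rw [← hfix]
    refine Nat.card_congr (Equiv.subtypeEquivRight fun a => ?_)
    rw [AddMonoidHom.mem_ker, hT]
    constructor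
    · intro h
      have := eq_neg_of_add_eq_zero_right h
      rwa [CharTwo.neg_eq] at this
    · intro h
      rw [h, CharTwo.add_self_eq_zero]
  have hle : Set.range T ⊆ {a : F | σ a = a} := by
    rintro _ ⟨l, rfl⟩
    show σ (T l) = T l
    rw [hT, map_add, hσ, add_comm]
  have hq0 : 0 < q := by
    rcases Nat.eq_zero_or_pos q with h | h
    · have := Fintype.card_pos (α := F); rw [hq, h] at this; simp at this
    · exact h
  have hcard : Nat.card T.range = q := by
    have h1 := AddSubgroup.card_mul_index T.ker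
    rw [AddSubgroup.index_ker, hker, Nat.card_eq_fintype_card (α := F), hq, sq] at h1
    exact Nat.eq_of_mul_eq_mul_left hq0 h1
  have := Set.eq_of_subset_of_ncard_le hle (by
    rw [← Nat.card_coe_set_eq, ← Nat.card_coe_set_eq]
    exact le_of_eq (hfix.trans hcard.symm))
  exact this.ge hc

theorem exists_snd (hq : Fintype.card F = q ^ 2) (hfix : Nat.card {a : F // σ a = a} = q) (x : F) :
    ∃ l : F, l + σ l + x * σ x = 0 := by
  obtain ⟨l, hl⟩ := trace_surj (hσ := hσ) hq hfix (c := x * σ x) (by rw [map_mul, hσ, mul_comm])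
  exact ⟨l, by rw [hl, CharTwo.add_self_eq_zero]⟩

variable (σ hσ)

include hq hfix

theorem card_unitaryPair : Nat.card (UnitaryPair σ hσ) = q ^ 3 := by
  classical
  choose L hL using exists_snd (hσ := hσ) hq hfix
  let e : UnitaryPair σ hσ ≃ F × {a : F // σ a = a} :=
    { toFun := fun p => (p.fst, ⟨p.snd + L p.fst, by
        have h := p.cond
        have h' := hL p.fst
        rw [map_add]
        have : σ p.snd + σ (L p.fst) + (p.snd + L p.fst) = 0 := by
          linear_combination h + h' - CharTwo.add_self_eq_zero (p.fst * σ p.fst)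
        exact CharTwo.add_eq_zero.1 this⟩)
      invFun := fun x => ⟨x.1, x.2.1 + L x.1, by
        have h' := hL x.1
        rw [map_add, x.2.2]
        linear_combination h' + CharTwo.add_self_eq_zero x.2.1⟩
      left_inv := fun p => by
        ext
        · rfl
        · show p.snd + L p.fst + L p.fst = p.snd
          rw [add_assoc, CharTwo.add_self_eq_zero, add_zero]
      right_inv := fun x => by
        refine Prod.ext rfl (Subtype.ext ?_)
        show x.2.1 + L x.1 + L x.1 = x.2.1
        rw [add_assoc, CharTwo.add_self_eq_zero, add_zero] }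
  rw [Nat.card_congr e, Nat.card_prod, hfix, Nat.card_eq_fintype_card, hq]
  ring

theorem mem_center_iff (hne : ∃ a, σ a ≠ a) (p : UnitaryPair σ hσ) :
    p ∈ Subgroup.center (UnitaryPair σ hσ) ↔ p.fst = 0 := by
  rw [Subgroup.mem_center_iff]
  constructor
  · intro h
    have key : ∀ x, p.fst * σ x = x * σ p.fst := by
      intro x
      obtain ⟨l, hl⟩ := exists_snd (hσ := hσ) hq hfix x
      have := congrArg UnitaryPair.snd (h ⟨x, l, hl⟩)
      simp only [mul_snd] at this
      linear_combination -this
    have h1 := key 1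
    rw [map_one, mul_one, one_mul] at h1
    by_contra hp
    obtain ⟨a, ha⟩ := hne
    apply ha
    have h2 := key a
    rw [← h1, mul_comm a] at h2
    exact mul_left_cancel₀ hp h2
  · intro h r
    ext
    · simp [add_comm]
    · simp [h, add_comm]

theorem card_center (hne : ∃ a, σ a ≠ a) :
    Nat.card (Subgroup.center (UnitaryPair σ hσ)) = q := by
  rw [← hfix]
  refine Nat.card_congr
    { toFun := fun p => ⟨p.1.snd, by
        have h := p.1.cond
        rw [(mem_center_iff σ hσ hq hfix hne _).1 p.2, zero_mul, add_zero] at h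
        exact (CharTwo.add_eq_zero.1 h).symm⟩
      invFun := fun a => ⟨⟨0, a.1, by rw [a.2, CharTwo.add_self_eq_zero, zero_mul, add_zero]⟩,
        (mem_center_iff σ hσ hq hfix hne _).2 rfl⟩
      left_inv := fun p => Subtype.ext (UnitaryPair.ext
        ((mem_center_iff σ hσ hq hfix hne _).1 p.2).symm rfl)
      right_inv := fun a => rfl }

theorem isSuzukiTwoGroup (hne : ∃ a, σ a ≠ a) {n : ℕ} (hn : 2 ≤ n) (hqn : q = 2 ^ n) :
    Cfsg.IsSuzukiTwoGroup (UnitaryPair σ hσ) := by
  have hcard := card_unitaryPair σ hσ hq hfix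
  have hfin : Finite (UnitaryPair σ hσ) :=
    Nat.finite_of_card_ne_zero (by rw [hcard, hqn]; positivity)
  have inv_iff : ∀ p : UnitaryPair σ hσ, p * p = 1 ↔ p.fst = 0 := by
    intro p
    constructor
    · intro h
      have h1 := congrArg UnitaryPair.snd h
      simp only [mul_snd, one_snd, CharTwo.add_self_eq_zero, zero_sub, neg_eq_zero,
        mul_eq_zero] at h1
      rcases h1 with h1 | h1
      · exact h1
      · exact (map_eq_zero σ).1 h1
    · intro h
      ext <;> simp [h, CharTwo.add_self_eq_zero]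
  refine ⟨hfin, ?_, ?_, ?_, (scaleHom σ hσ).range, ?_, ?_⟩
  · exact IsPGroup.of_card (n := n * 3) (by rw [hcard, hqn, ← pow_mul])
  · obtain ⟨a, ha⟩ := hne
    obtain ⟨l, hl⟩ := exists_snd (hσ := hσ) hq hfix a
    obtain ⟨l', hl'⟩ := exists_snd (hσ := hσ) hq hfix (1 : F)
    refine ⟨⟨a, l, hl⟩, ⟨1, l', hl'⟩, fun h => ha ?_⟩
    have := congrArg UnitaryPair.snd h
    simp only [mul_snd, map_one, mul_one, one_mul] at this
    linear_combination -this
  · have h3 : 2 < Nat.card {a : F // σ a = a} := by
      rw [hfix, hqn]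
      exact lt_of_lt_of_le (show 2 < 2 ^ 2 by norm_num) (Nat.pow_le_pow_right two_pos hn)
    obtain ⟨b, hb0, hb1⟩ : ∃ b : {a : F // σ a = a}, b.1 ≠ 0 ∧ b.1 ≠ 1 := by
      by_contra hcon
      push Not at hcon
      let f : {a : F // σ a = a} → Bool := fun b => @decide (b.1 = 0) (Classical.dec _)
      have hf : Function.Injective f := by
        intro b c h
        apply Subtype.ext
        by_cases hb : b.1 = 0
        · have : c.1 = 0 := by simpa [f, hb] using h
          rw [hb, this]
        · have hc : c.1 ≠ 0 := fun hc => hb (by simpa [f, hc] using h)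
          rw [hcon b hb, hcon c hc]
      have := Nat.card_le_card_of_injective f hf
      simp at this
      omega
    refine ⟨⟨0, 1, by simp [CharTwo.add_self_eq_zero]⟩, ⟨0, b.1, by
      rw [b.2, CharTwo.add_self_eq_zero, zero_mul, add_zero]⟩,
      fun h => hb1 (congrArg UnitaryPair.snd h).symm, fun h => one_ne_zero (congrArg UnitaryPair.snd h),
      (inv_iff _).2 rfl, fun h => hb0 (congrArg UnitaryPair.snd h), (inv_iff _).2 rfl⟩
  · exact isCyclic_of_surjective (scaleHom σ hσ).rangeRestrict
      (scaleHom σ hσ).rangeRestrict_surjective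
  · intro x y hx hx2 hy hy2
    have hx0 := (inv_iff x).1 hx2
    have hy0 := (inv_iff y).1 hy2
    have hfx : ∀ p : UnitaryPair σ hσ, p.fst = 0 → σ p.snd = p.snd := by
      intro p hp
      have h := p.cond
      rw [hp, zero_mul, add_zero] at h
      exact (CharTwo.add_eq_zero.1 h).symm
    have hxs : x.snd ≠ 0 := fun h => hx (UnitaryPair.ext hx0 h)
    have hys : y.snd ≠ 0 := fun h => hy (UnitaryPair.ext hy0 h)
    obtain ⟨c, hc⟩ : ∃ c : F, c * c = y.snd / x.snd := by
      obtain ⟨c, hc⟩ := (bijective_frobenius F 2).2 (y.snd / x.snd)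
      exact ⟨c, by rw [← sq]; exact hc⟩
    have hc0 : c ≠ 0 := by
      rintro rfl
      simp [hys, hxs, eq_comm] at hc
    have hcσ : σ c = c := by
      have : σ c ^ 2 = c ^ 2 := by
        rw [← map_pow, sq, hc, map_div₀, hfx x hx0, hfx y hy0]
      exact (bijective_frobenius F 2).1 this
    let u : fixedUnits σ := ⟨Units.mk0 c hc0, hcσ⟩
    refine ⟨⟨scaleHom σ hσ u, u, rfl⟩, ?_, ?_⟩
    · show scaleHom σ hσ u x = y
      refine UnitaryPair.ext ?_ ?_
      · show c * x.fst = y.fst
        rw [hx0, hy0, mul_zero]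
      · show c * c * x.snd = y.snd
        rw [hc, div_mul_cancel₀ _ hxs]
    · rintro ⟨_, v, rfl⟩ hv
      apply Subtype.ext
      show scaleHom σ hσ v = scaleHom σ hσ u
      congr 1
      apply Subtype.ext
      apply Units.ext
      have h2 : ((v : Fˣ) : F) * ((v : Fˣ) : F) * x.snd = y.snd := congrArg UnitaryPair.snd hv
      refine (bijective_frobenius F 2).1 ?_
      show ((v : Fˣ) : F) ^ 2 = c ^ 2
      rw [sq, sq, hc, eq_div_iff hxs, h2]

end UnitaryPair

/-- Being a Suzuki 2-group is invariant under isomorphism. -/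
theorem isSuzukiTwoGroup_of_mulEquiv {A B : Type*} [Group A] [Group B] (e : A ≃* B)
    (h : Cfsg.IsSuzukiTwoGroup A) : Cfsg.IsSuzukiTwoGroup B := by
  obtain ⟨hf, h2, ⟨x, y, hxy⟩, ⟨u, v, huv, hu, hu2, hv, hv2⟩, K, hK, hreg⟩ := h
  refine ⟨Finite.of_equiv A e.toEquiv, h2.of_equiv e,
    ⟨e x, e y, fun h => hxy (e.injective (by rw [map_mul, map_mul, h]))⟩,
    ⟨e u, e v, e.injective.ne huv, fun h => hu (e.injective (by rw [h, map_one])),
      by rw [← map_mul, hu2, map_one], fun h => hv (e.injective (by rw [h, map_one])),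
      by rw [← map_mul, hv2, map_one]⟩,
    K.map (MulAut.congr e).toMonoidHom, ?_, ?_⟩
  · exact isCyclic_of_surjective ((MulAut.congr e).toMonoidHom.subgroupMap K)
      ((MulAut.congr e).toMonoidHom.subgroupMap_surjective K)
  · intro a b ha ha2 hb hb2
    obtain ⟨k, hk, hku⟩ := hreg (e.symm a) (e.symm b)
      (fun h => ha (by rw [← e.apply_symm_apply a, h, map_one]))
      (by rw [← map_mul, ha2, map_one])
      (fun h => hb (by rw [← e.apply_symm_apply b, h, map_one]))
      (by rw [← map_mul, hb2, map_one])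
    refine ⟨⟨MulAut.congr e k, k, k.2, rfl⟩, ?_, ?_⟩
    · show e ((k : MulAut A) (e.symm a)) = b
      rw [hk, e.apply_symm_apply]
    · rintro ⟨_, l, hl, rfl⟩ hla
      apply Subtype.ext
      show MulAut.congr e l = MulAut.congr e k
      rw [← hku ⟨l, hl⟩ (by
        show l (e.symm a) = e.symm b
        rw [← hla]
        exact (e.symm_apply_apply _).symm)]

end CfsgLib.SuzukiTwo
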